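import Groth.Agent.Thick.Unram
import Mathlib.Algebra.Category.Ring.Constructions

/-!
# Morphisms whose sections are spanned by scalars
-/

set_option autoImplicit false
universe u

open CategoryTheory Limits Opposite TopologicalSpace AlgebraicGeometry TensorProduct

namespace Groth.Agent.FlatMor.CechH1

variable {X X' X'' : Scheme.{u}}

/-- Over every affine open, the functions on `X'` are spanned over those of `X` by the scalars `ψ`. -/
def Spans (h : X' ⟶ X) {B : Type u} [CommRing B] (ψ : B →+* Γ(X', (⊤ : X'.Opens))) : Prop :=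
  ∀ O : X.Opens, IsAffineOpen O → ∀ b : Γ(X', h ⁻¹ᵁ O), ∃ (r : ℕ) (c : Fin r → Γ(X, O)) (β : Fin r → B),
    b = ∑ j, h.app O (c j) * X'.presheaf.map (homOfLE le_top).op (ψ (β j))

/-- Elements of a pushout of rings are sums of products. -/
theorem exists_sum_of_isPushout {R A B P : CommRingCat.{u}} {f : R ⟶ A} {g : R ⟶ B} {a : A ⟶ P}
    {b : B ⟶ P} (h : IsPushout f g a b) (p : P) :
    ∃ (r : ℕ) (x : Fin r → A) (y : Fin r → B), p = ∑ j, a (x j) * b (y j) := by
  letI := f.hom.toAlgebra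
  letI := g.hom.toAlgebra
  have ht := CommRingCat.isPushout_tensorProduct R A B
  let e := ht.isoIsPushout _ _ h
  obtain ⟨t, rfl⟩ := (ConcreteCategory.bijective_of_isIso e.hom).2 p
  induction (show A ⊗[R] B from t) using TensorProduct.induction_on with
  | zero => exact ⟨0, Fin.elim0, Fin.elim0, by simp⟩
  | tmul x y =>
    refine ⟨1, fun _ => x, fun _ => y, ?_⟩
    have h1 : e.hom (x ⊗ₜ 1) = a x := congr($(IsPushout.inl_isoIsPushout_hom _ _ ht h) x)
    have h2 : e.hom (1 ⊗ₜ y) = b y := congr($(IsPushout.inr_isoIsPushout_hom _ _ ht h) y)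
    rw [Fin.sum_univ_one, ← h1, ← h2, ← map_mul, Algebra.TensorProduct.tmul_mul_tmul, mul_one, one_mul]
  | add s t hs ht' =>
    obtain ⟨r, x, y, h1⟩ := hs
    obtain ⟨r', x', y', h2⟩ := ht'
    refine ⟨r + r', Fin.append x x', Fin.append y y', ?_⟩
    rw [map_add, h1, h2, Fin.sum_univ_add]
    simp

/-- A base change of affine schemes spans with the scalars of the new base. -/
theorem spans_of_isPullback {S S' : Scheme.{u}} [IsAffine S] [IsAffine S'] {h : X' ⟶ X} {f' : X' ⟶ S'}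
    {f : X ⟶ S} {τ : S' ⟶ S} (hc : IsPullback h f' f τ) : Spans h f'.appTop.hom := by
  intro O hO b
  obtain ⟨h', hp⟩ := Groth.Agent.Thick.Unram.isPushout_appLE hc (isAffineOpen_top S) hO
    (le_of_le_of_eq le_top (Scheme.Hom.preimage_top f).symm)
  obtain ⟨r, x, y, hb⟩ := exists_sum_of_isPushout hp b
  refine ⟨r, x, y, hb.trans (Finset.sum_congr rfl fun j _ => congrArg (h.app O (x j) * ·) ?_)⟩
  rfl

/-- Composing with an affine-wise surjection keeps the span. -/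
theorem Spans.comp_closed {h : X' ⟶ X} [IsAffineHom h] {B : Type u} [CommRing B]
    {ψ : B →+* Γ(X', (⊤ : X'.Opens))} (hs : Spans h ψ) (i : X'' ⟶ X') [IsClosedImmersion i] :
    Spans (i ≫ h) (i.appTop.hom.comp ψ) := by
  intro O hO b
  obtain ⟨b', rfl⟩ := i.app_surjective (h ⁻¹ᵁ O) (hO.preimage h) b
  obtain ⟨r, c, β, rfl⟩ := hs O hO b'
  refine ⟨r, c, β, ?_⟩
  rw [map_sum]
  refine Finset.sum_congr rfl fun j _ => ?_
  rw [map_mul]
  congr 1
  exact congr($(i.naturality (homOfLE le_top).op) (ψ (β j)))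

/-- The spanning property only involves preimages of opens. -/
theorem Spans.restrict {h : X' ⟶ X} {B : Type u} [CommRing B] {ψ : B →+* Γ(X', (⊤ : X'.Opens))}
    (hs : Spans h ψ) (W : X'.Opens) (V : X.Opens) (e : W = h ⁻¹ᵁ V) :
    Spans (h.resLE V W e.le) (W.ι.appTop.hom.comp ψ) := by
  subst e
  intro O hO b
  let O' := V.ι ''ᵁ O
  have hO' : IsAffineOpen O' := hO.image_of_isOpenImmersion V.ι
  have he : h.resLE V (h ⁻¹ᵁ V) le_rfl ⁻¹ᵁ O = (h ⁻¹ᵁ V).ι ⁻¹ᵁ (h ⁻¹ᵁ O') := by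
    rw [← Scheme.Hom.comp_preimage, ← Scheme.Hom.resLE_comp_ι h le_rfl, Scheme.Hom.comp_preimage,
      Scheme.Hom.preimage_image_eq]
  have hbij : Function.Bijective ((h ⁻¹ᵁ V).ι.app (h ⁻¹ᵁ O')) := by
    haveI : IsIso ((h ⁻¹ᵁ V).ι.app (h ⁻¹ᵁ O')) := by
      refine (h ⁻¹ᵁ V).ι.isIso_app _ fun x hx => ?_
      rw [Scheme.Opens.opensRange_ι]
      obtain ⟨q, -, hq⟩ := (show h x ∈ O' from hx)
      exact show h x ∈ V from hq ▸ q.2
    exact ConcreteCategory.bijective_of_isIso _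
  obtain ⟨b', hb'⟩ := hbij.2 ((h ⁻¹ᵁ V).toScheme.presheaf.map (eqToHom he.symm).op b)
  obtain ⟨r, c, β, hc⟩ := hs O' hO' b'
  refine ⟨r, fun j => (V.ι.appLE O' O (V.ι.preimage_image_eq O).ge) (c j), β, ?_⟩
  have key : b = ((h ⁻¹ᵁ V).ι.appLE (h ⁻¹ᵁ O') (h.resLE V (h ⁻¹ᵁ V) le_rfl ⁻¹ᵁ O) he.le) b' := by
    rw [Scheme.Hom.appLE, CommRingCat.comp_apply, hb', ← CommRingCat.comp_apply, ← Functor.map_comp]
    exact (congr($((h ⁻¹ᵁ V).toScheme.presheaf.map_id _) b)).symm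
  rw [key, hc, map_sum]
  refine Finset.sum_congr rfl fun j _ => ?_
  rw [map_mul]
  congr 1
  · rw [← CommRingCat.comp_apply, Scheme.Hom.app_eq_appLE, Scheme.Hom.appLE_comp_appLE,
      ← CommRingCat.comp_apply, Scheme.Hom.app_eq_appLE, Scheme.Hom.appLE_comp_appLE]
    congr 3
    exact (Scheme.Hom.resLE_comp_ι h le_rfl).symm
  · rw [← CommRingCat.comp_apply, Scheme.Hom.map_appLE, RingHom.comp_apply, ← CommRingCat.comp_apply]
    congr 2

end Groth.Agent.FlatMor.CechH1
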