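import Groth.Agent.FlatMor.CechH1.Lift
import Groth.Agent.FlatMor.CechH1.Spans
import Groth.Agent.CBC.Cech

/-!
# Čech one-cocycles of the structure sheaf under morphisms with spanned sections
-/

set_option autoImplicit false
universe u

open CategoryTheory Limits Opposite TopologicalSpace AlgebraicGeometry

namespace Groth.Agent.FlatMor.CechH1

open Groth.Agent.CohAff (inter inter_le mem_inter inter_comp_le Cochain cd cd_apply cd_cd cmap cd_cmap cmap_apply)

variable {X X' : Scheme.{u}}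

/-- The linear Čech complex of the structure sheaf. -/
noncomputable abbrev C {A : Type u} [CommRing A] (ψ : A →+* Γ(X, (⊤ : X.Opens))) {ι : Type u}
    (U : ι → X.Opens) : CBC.SCx A :=
  CBC.cx ψ U (fun _ => le_top) (Coh.structureModule X)

/-- Every one-cocycle of the structure sheaf is a coboundary. -/
def Exact1 {ι : Type u} (U : ι → X.Opens) : Prop :=
  CohAff.CechExact (X := X.toPresheafedSpace.carrier) (Coh.structureModule X).presheaf U 0

variable {ι : Type u} (U : ι → X.Opens)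

/-- The preimage family. -/
noncomputable abbrev pre (h : X' ⟶ X) : ι → X'.Opens := fun i => h ⁻¹ᵁ U i

theorem iO_pre (h : X' ⟶ X) {n : ℕ} (x : Fin n → ι) : iO (pre U h) x = h ⁻¹ᵁ iO U x := by
  ext p
  exact ⟨fun hp => mem_inter.mpr fun a => mem_inter.mp hp a,
    fun hp => mem_inter.mpr fun a => mem_inter.mp hp a⟩

theorem isAffineOpen_iO_pre (h : X' ⟶ X) [IsAffineHom h]
    (haff : ∀ {n : ℕ} (x : Fin (n + 1) → ι), IsAffineOpen (iO U x)) {n : ℕ} (x : Fin (n + 1) → ι) :
    IsAffineOpen (iO (pre U h) x) := by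
  rw [iO_pre]
  exact (haff x).preimage h

theorem iSup_pre (h : X' ⟶ X) (hU : iSup U = ⊤) : iSup (pre U h) = ⊤ := by
  rw [show iSup (pre U h) = h ⁻¹ᵁ iSup U from (h.preimage_iSup U).symm, hU]
  rfl

/-- Vanishing above degree one passes to affine morphisms. -/
theorem van_pre (h : X' ⟶ X) [IsAffineHom h] {d : ℕ} (hU : VanQC.Van U d) : VanQC.Van (pre U h) d := by
  intro M hM n hn
  have hN := Groth.Agent.QCoh.isQuasicoherent_pushforward h M
  exact VanQC.cechExact_of_functor (S := X.toPresheafedSpace.carrier)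
    (Opens.map h.base) M.presheaf U (pre U h) (fun m x => (iO_pre U h x).symm) (hU _ hN n hn)

/-- Pulling back cochains of functions. -/
noncomputable def pullC (h : X' ⟶ X) {A B : Type u} [CommRing A] [CommRing B]
    (ψ : A →+* Γ(X, (⊤ : X.Opens))) (ψ' : B →+* Γ(X', (⊤ : X'.Opens))) (n : ℕ) :
    (C ψ U).X n →+ (C ψ' (pre U h)).X n :=
  AddMonoidHom.mk' (fun c x => (h.appLE (iO U x) (iO (pre U h) x) (iO_pre U h x).le
      (show Γ(X, iO U x) from c x) : Γ(X', iO (pre U h) x)))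
    fun a b => funext fun x =>
      map_add (h.appLE (iO U x) (iO (pre U h) x) (iO_pre U h x).le).hom
        (show Γ(X, iO U x) from a x) (show Γ(X, iO U x) from b x)

theorem pullC_apply (h : X' ⟶ X) {A B : Type u} [CommRing A] [CommRing B]
    (ψ : A →+* Γ(X, (⊤ : X.Opens))) (ψ' : B →+* Γ(X', (⊤ : X'.Opens))) {n : ℕ} (c : (C ψ U).X n)
    (x : Fin (n + 1) → ι) :
    (show Γ(X', iO (pre U h) x) from pullC U h ψ ψ' n c x) =
      h.appLE (iO U x) (iO (pre U h) x) (iO_pre U h x).le (show Γ(X, iO U x) from c x) := rfl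

variable {A B : Type u} [CommRing A] [CommRing B] {U} (h : X' ⟶ X)
  (ψ : A →+* Γ(X, (⊤ : X.Opens))) (ψ' : B →+* Γ(X', (⊤ : X'.Opens)))

theorem pullC_d {n : ℕ} (c : (C ψ U).X n) :
    pullC U h ψ ψ' (n + 1) ((C ψ U).d n c) = (C ψ' (pre U h)).d n (pullC U h ψ ψ' n c) := by
  funext x
  refine (congrArg (h.appLE (iO U x) (iO (pre U h) x) (iO_pre U h x).le).hom
    (cd_apply (Coh.structureModule X).presheaf U n _ x)).trans ?_
  refine (map_sum (h.appLE (iO U x) (iO (pre U h) x) (iO_pre U h x).le).hom _ _).trans ?_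
  refine Eq.trans ?_ (cd_apply (Coh.structureModule X').presheaf (pre U h) n _ x).symm
  refine Finset.sum_congr rfl fun j _ => ?_
  refine (map_zsmul (h.appLE (iO U x) (iO (pre U h) x) (iO_pre U h x).le).hom _ _).trans (congrArg _ ?_)
  show (X.presheaf.map _ ≫ h.appLE (iO U x) (iO (pre U h) x) _) _ =
    (h.appLE (iO U (x ∘ j.succAbove)) (iO (pre U h) (x ∘ j.succAbove)) _ ≫ X'.presheaf.map _) _
  rw [Scheme.Hom.map_appLE, Scheme.Hom.appLE_map]
  rfl

theorem pullC_smul (σ : A →+* B) (hσ : ψ'.comp σ = h.appTop.hom.comp ψ) {n : ℕ} (a : A)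
    (c : (C ψ U).X n) : pullC U h ψ ψ' n (a • c) = σ a • pullC U h ψ ψ' n c := by
  funext x
  refine (map_mul (h.appLE (iO U x) (iO (pre U h) x) (iO_pre U h x).le).hom _ _).trans
    (congrArg₂ (· * ·) ?_ rfl)
  show (X.presheaf.map (homOfLE le_top).op ≫ h.appLE (iO U x) (iO (pre U h) x) _) (ψ a) =
    X'.presheaf.map (homOfLE le_top).op (ψ' (σ a))
  rw [← RingHom.comp_apply ψ' σ, hσ, Scheme.Hom.map_appLE]
  show _ = (h.app ⊤ ≫ X'.presheaf.map _) (ψ a)
  rw [Scheme.Hom.app_eq_appLE, Scheme.Hom.appLE_map]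

/-- **Cocycles upstairs are combinations of pulled back cocycles.** -/
theorem exists_pull_lift [IsAffineHom h] [Finite ι] (hvan : VanQC.Van U 1)
    (haff : ∀ {n : ℕ} (x : Fin (n + 1) → ι), IsAffineOpen (iO U x)) (hs : Spans h ψ')
    (z : (C ψ' (pre U h)).X 1) (hz : (C ψ' (pre U h)).d 1 z = 0) :
    ∃ (r : ℕ) (β : Fin r → B) (c : Fin r → (C ψ U).X 1), (∀ j, (C ψ U).d 1 (c j) = 0) ∧
      z = ∑ j, β j • pullC U h ψ ψ' 1 (c j) := by
  classical
  haveI := Fintype.ofFinite ι
  let N : X.Modules := (Scheme.Modules.pushforward h).obj (Coh.structureModule X')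
  haveI : (Coh.structureModule X').IsQuasicoherent := WeakAssSch.isQuasicoherent_unit X'
  haveI : N.IsQuasicoherent := Groth.Agent.QCoh.isQuasicoherent_pushforward h _
  -- the cochain of `N` attached to a cochain upstairs
  let e : ∀ n, (C ψ' (pre U h)).X n → Coch N U n := fun n c x =>
    X'.presheaf.map (homOfLE (iO_pre U h x).ge).op (show Γ(X', iO (pre U h) x) from c x)
  have hed : ∀ (n : ℕ) c, cd N.presheaf U n (e n c) = e (n + 1) ((C ψ' (pre U h)).d n c) := by
    intro n c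
    funext x
    refine Eq.trans (cd_apply _ _ _ _ x) ?_
    refine Eq.trans ?_ (congrArg (X'.presheaf.map (homOfLE (iO_pre U h x).ge).op).hom
      (cd_apply (Coh.structureModule X').presheaf (pre U h) n _ x)).symm
    refine Eq.trans ?_ (map_sum (X'.presheaf.map (homOfLE (iO_pre U h x).ge).op).hom _ _).symm
    refine Finset.sum_congr rfl fun j _ => ?_
    refine Eq.trans ?_ (map_zsmul (X'.presheaf.map (homOfLE (iO_pre U h x).ge).op).hom _ _).symm
    refine congrArg _ ?_
    show (X'.presheaf.map _ ≫ X'.presheaf.map _) _ = (X'.presheaf.map _ ≫ X'.presheaf.map _) _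
    rw [← Functor.map_comp, ← Functor.map_comp]
    rfl
  choose r c₀ β₀ hb using fun x => hs (iO U x) (haff x) (e 1 z x)
  let K := Σ x : Fin (1 + 1) → ι, Fin (r x)
  let q := Fintype.equivFin K
  let β : Fin (Fintype.card K) → B := fun j => β₀ (q.symm j).1 (q.symm j).2
  let s : Fin (Fintype.card K) → Γ(N, (⊤ : X.Opens)) := fun j => ψ' (β j)
  have hspan : ∀ x, ∃ a : Fin (Fintype.card K) → Γ(X, iO U x),
      e 1 z x = ∑ j, a j • N.presheaf.map (homOfLE le_top).op (s j) := by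
    intro x
    let aK : K → Γ(X, iO U x) := fun k => if hk : k.1 = x then c₀ x (hk ▸ k.2) else 0
    refine ⟨fun j => aK (q.symm j), (hb x).trans ?_⟩
    let mK : K → Γ(N, iO U x) := fun k =>
      N.presheaf.map (homOfLE (le_top : iO U x ≤ ⊤)).op
        (show Γ(N, (⊤ : X.Opens)) from ψ' (β₀ k.1 k.2))
    refine Eq.trans ?_ (q.symm.sum_comp fun k : K => aK k • mK k).symm
    rw [Fintype.sum_sigma, Finset.sum_eq_single x]
    · refine Finset.sum_congr rfl fun i _ => ?_
      simp only [aK, dif_pos]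
      rfl
    · intro y _ hy
      refine Finset.sum_eq_zero fun i _ => ?_
      rw [show aK ⟨y, i⟩ = 0 from dif_neg hy]
      exact zero_smul _ _
    · intro hx
      exact absurd (Finset.mem_univ x) hx
  obtain ⟨c, hc, hzc⟩ := exists_cocycle_lift hvan N s (e 1 z) (by rw [hed, hz]; funext x; exact map_zero _) hspan
  refine ⟨Fintype.card K, β, c, hc, ?_⟩
  funext x
  rw [Finset.sum_apply]
  have h1 := congrArg (X'.presheaf.map (homOfLE (iO_pre U h x).le).op).hom (hzc x)
  refine Eq.trans ?_ (h1.trans ((map_sum _ _ _).trans (Finset.sum_congr rfl fun j _ => ?_)))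
  · show _ = (X'.presheaf.map _ ≫ X'.presheaf.map _) (show Γ(X', iO (pre U h) x) from z x)
    rw [← Functor.map_comp, show ((homOfLE (iO_pre U h x).ge).op ≫ (homOfLE (iO_pre U h x).le).op) = 𝟙 _
      from Subsingleton.elim _ _, X'.presheaf.map_id]
    rfl
  · refine (map_mul (X'.presheaf.map (homOfLE (iO_pre U h x).le).op).hom _ _).trans ?_
    refine (mul_comm _ _).trans (congrArg₂ (· * ·) ?_ ?_)
    · show (X'.presheaf.map _ ≫ X'.presheaf.map _) (ψ' (β j)) = X'.presheaf.map _ (ψ' (β j))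
      rw [← Functor.map_comp]
      rfl
    · show (h.app (iO U x) ≫ X'.presheaf.map _) _ = _
      rw [Scheme.Hom.app_eq_appLE, Scheme.Hom.appLE_map]
      rfl

/-- Exactness in degree one passes upstairs. -/
theorem exact1_pre [IsAffineHom h] [Finite ι] (hvan : VanQC.Van U 1)
    (haff : ∀ {n : ℕ} (x : Fin (n + 1) → ι), IsAffineOpen (iO U x)) (hs : Spans h ψ')
    (hex : Exact1 U) : Exact1 (pre U h) := by
  intro z hz
  obtain ⟨r, β, c, hc, hzc⟩ := exists_pull_lift h (RingHom.id _) ψ' hvan haff hs z hz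
  choose t ht using fun j => show ∃ t : (C (RingHom.id Γ(X, (⊤ : X.Opens))) U).X 0,
    (C (RingHom.id Γ(X, (⊤ : X.Opens))) U).d 0 t = c j from hex (c j) (hc j)
  refine ⟨∑ j, β j • pullC U h (RingHom.id _) ψ' 0 (t j), ?_⟩
  show (C ψ' (pre U h)).d 0 _ = z
  refine (map_sum ((C ψ' (pre U h)).d 0) _ _).trans (Eq.trans ?_ hzc.symm)
  refine Finset.sum_congr rfl fun j _ => ?_
  rw [map_smul, ← pullC_d]
  exact congrArg (fun c' => β j • pullC U h (RingHom.id _) ψ' 1 c') (ht j)

/-- Finite generation of the first cohomology passes upstairs. -/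
theorem exists_gens_pre [IsAffineHom h] [Finite ι] (hvan : VanQC.Van U 1)
    (haff : ∀ {n : ℕ} (x : Fin (n + 1) → ι), IsAffineOpen (iO U x)) (hs : Spans h ψ')
    (σ : A →+* B) (hσ : ψ'.comp σ = h.appTop.hom.comp ψ) {r : ℕ} (w : Fin r → (C ψ U).X 1)
    (hgen : ∀ z, (C ψ U).d 1 z = 0 → ∃ (a : Fin r → A) (t : (C ψ U).X 0),
      z = ∑ k, a k • w k + (C ψ U).d 0 t)
    (z : (C ψ' (pre U h)).X 1) (hz : (C ψ' (pre U h)).d 1 z = 0) :
    ∃ (a : Fin r → B) (t : (C ψ' (pre U h)).X 0),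
      z = ∑ k, a k • pullC U h ψ ψ' 1 (w k) + (C ψ' (pre U h)).d 0 t := by
  obtain ⟨m, β, c, hc, hzc⟩ := exists_pull_lift h ψ ψ' hvan haff hs z hz
  choose a t hat using fun j => hgen (c j) (hc j)
  refine ⟨fun k => ∑ j, β j * σ (a j k), ∑ j, β j • pullC U h ψ ψ' 0 (t j), ?_⟩
  have hj : ∀ j, β j • pullC U h ψ ψ' 1 (c j) =
      ∑ k, (β j * σ (a j k)) • pullC U h ψ ψ' 1 (w k) +
        (C ψ' (pre U h)).d 0 (β j • pullC U h ψ ψ' 0 (t j)) := fun j => by
    rw [hat j, map_add, map_sum, pullC_d, smul_add, map_smul, Finset.smul_sum]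
    refine congrArg (· + _) (Finset.sum_congr rfl fun k _ => ?_)
    rw [pullC_smul h ψ ψ' σ hσ, smul_smul]
  rw [hzc, map_sum, Finset.sum_congr rfl fun j _ => hj j, Finset.sum_add_distrib, Finset.sum_comm]
  simp only [Finset.sum_smul]

end Groth.Agent.FlatMor.CechH1
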