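import Groth.Agent.FlatMor.CechH1.Basic
import Mathlib.LinearAlgebra.Matrix.Charpoly.LinearMap

/-!
# First Čech cohomology: finite generation, fibres and Nakayama
-/

set_option autoImplicit false
universe u

open CategoryTheory Limits Opposite TopologicalSpace AlgebraicGeometry

namespace Groth.Agent.FlatMor.CechH1

open Groth.Agent.CohAff (inter inter_le mem_inter inter_comp_le Cochain cd cd_apply cd_cd cmap cd_cmap cmap_apply)

variable {X X' : Scheme.{u}} {ι : Type u} {U : ι → X.Opens} {A B : Type u} [CommRing A] [CommRing B]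
  (h : X' ⟶ X) (ψ : A →+* Γ(X, (⊤ : X.Opens))) (ψ' : B →+* Γ(X', (⊤ : X'.Opens)))

/-- A cocycle has trivial class iff it is a coboundary. -/
theorem cls₀_eq_zero_iff (z : (C ψ U).X 1) (hz : (C ψ U).d 1 z = 0) :
    (C ψ U).cls₀ z hz = 0 ↔ ∃ t : (C ψ U).X 0, (C ψ U).d 0 t = z := by
  rw [CBC.SCx.cls₀, Submodule.Quotient.mk_eq_zero]
  rfl

/-- The class of a coboundary vanishes. -/
theorem cls₀_d (t : (C ψ U).X 0) : (C ψ U).cls₀ ((C ψ U).d 0 t) ((C ψ U).d_d 0 t) = 0 :=
  (cls₀_eq_zero_iff ψ _ _).mpr ⟨t, rfl⟩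

/-- Finiteness passes upstairs. -/
theorem finite_pre [IsAffineHom h] [Finite ι] (hvan : VanQC.Van U 1)
    (haff : ∀ {n : ℕ} (x : Fin (n + 1) → ι), IsAffineOpen (iO U x)) (hs : Spans h ψ')
    (σ : A →+* B) (hσ : ψ'.comp σ = h.appTop.hom.comp ψ) [hfin : Module.Finite A ((C ψ U).H₀ 1)] :
    Module.Finite B ((C ψ' (pre U h)).H₀ 1) := by
  classical
  obtain ⟨r, m, hm⟩ := Module.Finite.exists_fin (R := A) (M := (C ψ U).H₀ 1)
  choose w hw using fun k => Submodule.Quotient.mk_surjective _ (m k)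
  have hgen : ∀ z, (C ψ U).d 1 z = 0 → ∃ (a : Fin r → A) (t : (C ψ U).X 0),
      z = ∑ k, a k • (w k).1 + (C ψ U).d 0 t := by
    intro z hz
    have hmem : (C ψ U).cls₀ z hz ∈ Submodule.span A (Set.range m) := hm ▸ Submodule.mem_top
    obtain ⟨a, ha⟩ := (Submodule.mem_span_range_iff_exists_fun A).mp hmem
    have h0 : (Submodule.Quotient.mk ((⟨z, hz⟩ : (C ψ U).Z₀ 1) - ∑ k, a k • w k) : (C ψ U).H₀ 1) = 0 := by
      rw [← Submodule.mkQ_apply, map_sub, map_sum]
      simp only [map_smul, Submodule.mkQ_apply, hw, ha]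
      exact sub_self _
    obtain ⟨t, ht⟩ := (Submodule.Quotient.mk_eq_zero _).mp h0
    refine ⟨a, t, ?_⟩
    rw [ht, map_sub, map_sum]
    simp
  choose a t hat using fun z : (C ψ' (pre U h)).Z₀ 1 => exists_gens_pre h ψ ψ' hvan haff hs σ hσ (fun k => (w k).1) hgen z.1 z.2
  refine ⟨Finset.univ.image (fun k => (C ψ' (pre U h)).cls₀ (pullC U h ψ ψ' 1 (w k).1)
    (by rw [← pullC_d, (w k).2]; exact map_zero _)), ?_⟩
  refine eq_top_iff.mpr fun q _ => ?_
  obtain ⟨z, rfl⟩ := Submodule.Quotient.mk_surjective _ q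
  have hk : ∀ k, (C ψ' (pre U h)).d 1 (pullC U h ψ ψ' 1 (w k).1) = 0 := fun k => by
    rw [← pullC_d, (w k).2]; exact map_zero _
  have hz : z = ∑ k, a z k • (⟨pullC U h ψ ψ' 1 (w k).1, hk k⟩ : (C ψ' (pre U h)).Z₀ 1) +
      ⟨(C ψ' (pre U h)).d 0 (t z), (C ψ' (pre U h)).d_d 0 _⟩ := Subtype.ext (by simpa using hat z)
  rw [hz, Submodule.Quotient.mk_add, ← Submodule.mkQ_apply, map_sum]
  refine Submodule.add_mem _ (Submodule.sum_mem _ fun k _ => ?_) ?_
  · rw [map_smul]
    exact Submodule.smul_mem _ _ (Submodule.subset_span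
      (Finset.mem_image.mpr ⟨k, Finset.mem_univ k, rfl⟩))
  · convert Submodule.zero_mem _ using 1
    exact cls₀_d ψ' (U := pre U h) (t z)

/-- A module with `s M ⊆ p M` is killed by an element outside `p`. -/
theorem exists_smul_eq_zero {M : Type u} [AddCommGroup M] [Module A M] [Module.Finite A M]
    (p : Ideal A) [p.IsPrime] (s : A) (hs : s ∉ p) (h : ∀ m : M, s • m ∈ p • (⊤ : Submodule A M)) :
    ∃ r ∉ p, ∀ m : M, r • m = 0 := by
  obtain ⟨P, hP, hdeg, hco, hev⟩ := LinearMap.exists_monic_and_coeff_mem_pow_and_aeval_eq_zero_of_range_le_smul A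
    (algebraMap A (Module.End A M) s) p (by rintro _ ⟨m, rfl⟩; exact h m)
  rw [Polynomial.aeval_algebraMap_apply] at hev
  refine ⟨Polynomial.eval s P, fun hmem => hs ?_, fun m => ?_⟩
  · rw [Polynomial.eval_eq_sum_range, Finset.sum_range_succ, hP.coeff_natDegree, one_mul] at hmem
    refine Ideal.IsPrime.mem_of_pow_mem ‹_› P.natDegree ((p.add_mem_iff_right ?_).mp hmem)
    refine p.sum_mem fun i hi => p.mul_mem_right _ ?_
    exact Ideal.pow_le_self (by have := Finset.mem_range.mp hi; omega) (hdeg ▸ hco i)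
  · have := congr($hev m)
    rw [Polynomial.coe_aeval_eq_eval] at this
    simpa using this

/-- A scalar multiple of a fibre cochain comes from above. -/
theorem exists_pull_smul [Finite ι] (haff : ∀ {n : ℕ} (x : Fin (n + 1) → ι), IsAffineOpen (iO U x))
    (hs : Spans h ψ') (σ : A →+* B) (hσ : ψ'.comp σ = h.appTop.hom.comp ψ) (p : Ideal A) [p.IsPrime]
    (hfrac : ∀ b : B, ∃ a s, s ∉ p ∧ σ s * b = σ a) {n : ℕ} (t : (C ψ' (pre U h)).X n) :
    ∃ s ∉ p, ∃ t₀ : (C ψ U).X n, pullC U h ψ ψ' n t₀ = σ s • t := by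
  classical
  haveI := Fintype.ofFinite ι
  have hx : ∀ x : Fin (n + 1) → ι, ∃ s ∉ p, ∃ c : Γ(X, iO U x),
      h.appLE (iO U x) (iO (pre U h) x) (iO_pre U h x).le c =
        X'.presheaf.map (homOfLE le_top).op (ψ' (σ s)) * (show Γ(X', iO (pre U h) x) from t x) := by
    intro x
    obtain ⟨r, c, β, hb⟩ := hs (iO U x) (haff x)
      (X'.presheaf.map (homOfLE (iO_pre U h x).ge).op (show Γ(X', iO (pre U h) x) from t x))
    choose a s hs' ha using fun j => hfrac (β j)
    refine ⟨∏ j, s j, fun hmem => ?_, ∑ j, c j * X.presheaf.map (homOfLE le_top).op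
      (ψ ((∏ l ∈ Finset.univ.erase j, s l) * a j)), ?_⟩
    · obtain ⟨j, -, hj⟩ := (Ideal.IsPrime.prod_mem_iff.mp hmem)
      exact hs' j hj
    · have ht : (show Γ(X', iO (pre U h) x) from t x) = ∑ j,
          h.appLE (iO U x) (iO (pre U h) x) (iO_pre U h x).le (c j) *
            X'.presheaf.map (homOfLE le_top).op (ψ' (β j)) := by
        have h1 := congrArg (X'.presheaf.map (homOfLE (iO_pre U h x).le).op).hom hb
        rw [map_sum] at h1
        refine Eq.trans ?_ (h1.trans (Finset.sum_congr rfl fun j _ => ?_))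
        · show _ = (X'.presheaf.map _ ≫ X'.presheaf.map _) _
          rw [← Functor.map_comp, show ((homOfLE (iO_pre U h x).ge).op ≫ (homOfLE (iO_pre U h x).le).op) = 𝟙 _
            from Subsingleton.elim _ _, X'.presheaf.map_id]
          rfl
        · rw [map_mul]
          refine congrArg₂ (· * ·) ?_ ?_
          · show (h.app (iO U x) ≫ X'.presheaf.map _) _ = _
            rw [Scheme.Hom.app_eq_appLE, Scheme.Hom.appLE_map]
          · show (X'.presheaf.map _ ≫ X'.presheaf.map _) _ = _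
            rw [← Functor.map_comp]
            rfl
      rw [ht, Finset.mul_sum, map_sum]
      refine Finset.sum_congr rfl fun j _ => ?_
      rw [map_mul, mul_left_comm]
      congr 1
      rw [← map_mul, ← map_mul ψ', ← Finset.mul_prod_erase Finset.univ s (Finset.mem_univ j),
        mul_comm (s j), map_mul σ _ (s j), mul_assoc, ha, ← map_mul σ, ← RingHom.comp_apply ψ' σ, hσ]
      show (X.presheaf.map _ ≫ h.appLE _ _ _) _ = (h.app ⊤ ≫ X'.presheaf.map _) _
      rw [Scheme.Hom.map_appLE, Scheme.Hom.app_eq_appLE, Scheme.Hom.appLE_map]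
  choose s hsp c hc using hx
  refine ⟨∏ x, s x, fun hmem => ?_,
    fun x => (show Γ(X, iO U x) from X.presheaf.map (homOfLE le_top).op
      (ψ (∏ y ∈ Finset.univ.erase x, s y)) * c x), ?_⟩
  · obtain ⟨x, -, hx⟩ := (Ideal.IsPrime.prod_mem_iff.mp hmem)
    exact hsp x hx
  · funext x
    refine (map_mul (h.appLE (iO U x) (iO (pre U h) x) (iO_pre U h x).le).hom _ _).trans ?_
    have hrs : h.appLE (iO U x) (iO (pre U h) x) (iO_pre U h x).le
        (X.presheaf.map (homOfLE le_top).op (ψ (∏ y ∈ Finset.univ.erase x, s y))) =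
        X'.presheaf.map (homOfLE le_top).op (ψ' (σ (∏ y ∈ Finset.univ.erase x, s y))) := by
      rw [← RingHom.comp_apply ψ' σ, hσ]
      show (X.presheaf.map _ ≫ h.appLE _ _ _) _ = (h.app ⊤ ≫ X'.presheaf.map _) _
      rw [Scheme.Hom.map_appLE, Scheme.Hom.app_eq_appLE, Scheme.Hom.appLE_map]
    refine (congrArg₂ (fun a b : Γ(X', iO (pre U h) x) => a * b) hrs (hc x)).trans ?_
    · show _ = X'.presheaf.map (homOfLE le_top).op (ψ' (σ (∏ y, s y))) * (show Γ(X', iO (pre U h) x) from t x)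
      rw [← mul_assoc]
      refine congrArg (· * _) ?_
      rw [← map_mul, ← map_mul ψ', ← map_mul σ, mul_comm,
        Finset.mul_prod_erase Finset.univ s (Finset.mem_univ x)]

/-- **Nakayama.** If the first cohomology is finite and the classes die on the fibre at `p`, an element
outside `p` kills it. -/
theorem exists_killed [Finite ι] (hvan : VanQC.Van U 1)
    (haff : ∀ {n : ℕ} (x : Fin (n + 1) → ι), IsAffineOpen (iO U x))
    [Module.Finite A ((C ψ U).H₀ 1)]
    (hs : Spans h ψ') (σ : A →+* B) (hσ : ψ'.comp σ = h.appTop.hom.comp ψ) (p : Ideal A) [p.IsPrime]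
    (hfrac : ∀ b : B, ∃ a s, s ∉ p ∧ σ s * b = σ a)
    (hker : ∀ O : X.Opens, IsAffineOpen O → ∀ x : Γ(X, O), h.app O x = 0 → ∃ s ∉ p,
      X.presheaf.map (homOfLE le_top).op (ψ s) * x ∈
        Ideal.map ((X.presheaf.map (homOfLE (le_top : O ≤ ⊤)).op).hom.comp ψ) p)
    (hex : Exact1 (pre U h)) :
    ∃ r ∉ p, ∀ z : (C ψ U).X 1, (C ψ U).d 1 z = 0 → ∃ t : (C ψ U).X 0, (C ψ U).d 0 t = r • z := by
  classical
  haveI := Fintype.ofFinite ι
  -- each class times some element outside `p` lies in `p` times the cohomology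
  have step : ∀ m : (C ψ U).H₀ 1, ∃ s ∉ p, s • m ∈ p • (⊤ : Submodule A ((C ψ U).H₀ 1)) := by
    intro m
    obtain ⟨⟨z, hz⟩, rfl⟩ := Submodule.Quotient.mk_surjective _ m
    obtain ⟨t', ht'⟩ : ∃ t' : (C ψ' (pre U h)).X 0, (C ψ' (pre U h)).d 0 t' = pullC U h ψ ψ' 1 z :=
      hex _ (show (C ψ' (pre U h)).d 1 (pullC U h ψ ψ' 1 z) = 0 by rw [← pullC_d, hz]; exact map_zero _)
    obtain ⟨s, hsp, t₀, ht₀⟩ := exists_pull_smul h ψ ψ' haff hs σ hσ p hfrac t'
    let w : (C ψ U).X 1 := s • z - (C ψ U).d 0 t₀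
    have hw : pullC U h ψ ψ' 1 w = 0 := by
      show pullC U h ψ ψ' 1 (s • z - (C ψ U).d 0 t₀) = 0
      rw [map_sub, pullC_smul h ψ ψ' σ hσ, pullC_d, ht₀, map_smul, ht', sub_self]
    have hwx : ∀ x : Fin (1 + 1) → ι, h.app (iO U x) (show Γ(X, iO U x) from w x) = 0 := by
      intro x
      have h1 := congrArg (X'.presheaf.map (homOfLE (iO_pre U h x).ge).op).hom (congrFun hw x)
      refine Eq.trans ?_ (h1.trans (map_zero _))
      show _ = (h.appLE _ _ _ ≫ X'.presheaf.map _) _
      rw [Scheme.Hom.appLE_map, Scheme.Hom.app_eq_appLE]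
    choose s' hs' hmem using fun x => hker (iO U x) (haff x) _ (hwx x)
    let S := ∏ x, s' x
    have hS : S ∉ p := fun hm => by
      obtain ⟨x, -, hx⟩ := (Ideal.IsPrime.prod_mem_iff.mp hm)
      exact hs' x hx
    have hmem' : ∀ x, ∃ F : Finset A, ↑F ⊆ (p : Set A) ∧ (show Γ(X, iO U x) from (S • w) x) ∈
        Ideal.map ((X.presheaf.map (homOfLE (le_top : iO U x ≤ ⊤)).op).hom.comp ψ) (Ideal.span ↑F) := by
      intro x
      have h1 : (show Γ(X, iO U x) from (S • w) x) ∈
          Ideal.map ((X.presheaf.map (homOfLE (le_top : iO U x ≤ ⊤)).op).hom.comp ψ) p := by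
        show X.presheaf.map (homOfLE le_top).op (ψ S) * (show Γ(X, iO U x) from w x) ∈ _
        rw [show S = (∏ y ∈ Finset.univ.erase x, s' y) * s' x by
          rw [mul_comm]; exact (Finset.mul_prod_erase Finset.univ s' (Finset.mem_univ x)).symm,
          map_mul, map_mul]
        exact (congrArg (fun e => e ∈ Ideal.map _ p) (mul_assoc _ _ _)).mpr (Ideal.mul_mem_left _ _ (hmem x))
      obtain ⟨G, hG, hxG⟩ := Submodule.mem_span_finite_of_mem_span h1
      choose pre hpre hpre' using fun e : G => hG e.2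
      refine ⟨Finset.univ.image pre, fun _ he => ?_, ?_⟩
      · obtain ⟨e, -, rfl⟩ := Finset.mem_image.mp (Finset.mem_coe.mp he)
        exact hpre e
      · refine (Submodule.span_le.mpr ?_) hxG
        intro e he
        show e ∈ _
        rw [← show _ = e from hpre' ⟨e, he⟩]
        exact Ideal.mem_map_of_mem _ (Ideal.subset_span (Finset.mem_image.mpr ⟨_, Finset.mem_univ _, rfl⟩))
    choose F hFp hF using hmem'
    let G := Finset.univ.biUnion F
    let r := G.card
    let a : Fin r → A := fun i => (G.equivFin.symm i).1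
    have hap : ∀ k, a k ∈ p := fun k => by
      obtain ⟨x, -, hx⟩ := Finset.mem_biUnion.mp (G.equivFin.symm k).2
      exact hFp x hx
    have hspan : ∀ x, ∃ b : Fin r → Γ(X, iO U x), (show Γ(X, iO U x) from (S • w) x) =
        ∑ k, b k • (Coh.structureModule X).presheaf.map (homOfLE le_top).op (ψ (a k)) := by
      intro x
      have hle : Ideal.span (↑(F x) : Set A) ≤ Ideal.span (Set.range a) := Ideal.span_mono fun e he =>
        ⟨G.equivFin ⟨e, Finset.mem_biUnion.mpr ⟨x, Finset.mem_univ x, he⟩⟩, by simp [a]⟩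
      have h1 := Ideal.map_mono hle (hF x)
      rw [Ideal.map_span, ← Set.range_comp] at h1
      obtain ⟨b, hb⟩ := (Submodule.mem_span_range_iff_exists_fun _).mp h1
      exact ⟨b, hb.symm⟩
    have hdw : (C ψ U).d 1 (S • w) = 0 := by
      show (C ψ U).d 1 (S • (s • z - (C ψ U).d 0 t₀)) = 0
      rw [map_smul, map_sub, map_smul, hz, (C ψ U).d_d, smul_zero, sub_zero, smul_zero]
    haveI : (Coh.structureModule X).IsQuasicoherent := WeakAssSch.isQuasicoherent_unit X
    obtain ⟨c, hc, hwc⟩ := exists_cocycle_lift hvan (Coh.structureModule X) (fun k => ψ (a k)) (S • w) hdw hspan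
    refine ⟨S * s, fun hm => (Ideal.IsPrime.mem_or_mem ‹_› hm).elim hS hsp, ?_⟩
    have hcls : (S * s) • (⟨z, hz⟩ : (C ψ U).Z₀ 1) = ∑ k, a k • (⟨c k, hc k⟩ : (C ψ U).Z₀ 1) +
        ⟨(C ψ U).d 0 (S • t₀), (C ψ U).d_d 0 _⟩ := by
      refine Subtype.ext ?_
      have hsum : S • w = ∑ k, a k • (show (C ψ U).X 1 from c k) := by
        funext x
        rw [Finset.sum_apply]
        refine (hwc x).trans (Finset.sum_congr rfl fun k _ => ?_)
        show (show Γ(X, iO U x) from c k x) * X.presheaf.map (homOfLE le_top).op (ψ (a k)) =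
          X.presheaf.map (homOfLE le_top).op (ψ (a k)) * (show Γ(X, iO U x) from c k x)
        exact mul_comm (show Γ(X, iO U x) from c k x) (X.presheaf.map (homOfLE le_top).op (ψ (a k)))
      simp only [Submodule.coe_smul, Submodule.coe_add, Submodule.coe_sum]
      rw [← hsum, map_smul, ← smul_add, sub_add_cancel, mul_smul]
    rw [← Submodule.Quotient.mk_smul, hcls, Submodule.Quotient.mk_add]
    refine Submodule.add_mem _ ?_ (by
      convert Submodule.zero_mem _ using 1
      exact cls₀_d ψ (U := U) (S • t₀))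
    rw [← Submodule.mkQ_apply, map_sum]
    refine Submodule.sum_mem _ fun k _ => ?_
    rw [map_smul]
    exact Submodule.smul_mem_smul (hap k) Submodule.mem_top
  obtain ⟨m, g, hg⟩ := Module.Finite.exists_fin (R := A) (M := (C ψ U).H₀ 1)
  choose s hsp hsm using fun j => step (g j)
  obtain ⟨q, hqp, hq⟩ := exists_smul_eq_zero p (∏ j, s j) (fun hm => by
    obtain ⟨j, -, hj⟩ := (Ideal.IsPrime.prod_mem_iff.mp hm)
    exact hsp j hj) fun x => by
      have hx : x ∈ Submodule.span A (Set.range g) := hg ▸ Submodule.mem_top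
      induction hx using Submodule.span_induction with
      | mem y hy =>
        obtain ⟨j, rfl⟩ := hy
        rw [← Finset.mul_prod_erase Finset.univ s (Finset.mem_univ j), mul_comm, mul_smul]
        exact Submodule.smul_mem _ _ (hsm j)
      | zero => rw [smul_zero]; exact Submodule.zero_mem _
      | add _ _ _ _ h1 h2 => rw [smul_add]; exact Submodule.add_mem _ h1 h2
      | smul c _ _ h1 => rw [smul_comm]; exact Submodule.smul_mem _ _ h1
  refine ⟨q, hqp, fun z hz => ?_⟩
  have h0 := hq ((C ψ U).cls₀ z hz)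
  rw [CBC.SCx.cls₀, ← Submodule.Quotient.mk_smul, Submodule.Quotient.mk_eq_zero] at h0
  exact h0

end Groth.Agent.FlatMor.CechH1
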