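import Groth.Agent.FlatMor.CechH1.Core
import Groth.Agent.Thick.Unram
import Mathlib.RingTheory.Localization.FractionRing
import Mathlib.AlgebraicGeometry.Morphisms.SurjectiveOnStalks

/-!
# Fibres of the spanning set-up
-/

set_option autoImplicit false
universe u

open CategoryTheory Limits Opposite TopologicalSpace AlgebraicGeometry

namespace Groth.Agent.FlatMor.CechH1

/-- The functions on the target give all functions on the source as fractions. -/
def HasFrac {T W : Scheme.{u}} (τ : T ⟶ W) : Prop :=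
  ∀ b : Γ(T, (⊤ : T.Opens)), ∃ a s : Γ(W, (⊤ : W.Opens)), τ.appTop s ≠ 0 ∧ τ.appTop s * b = τ.appTop a

/-- A point of an affine scheme with values in a field spanned by its residue field has fractions. -/
theorem hasFrac_of_surjectiveOnStalks {T W : Scheme.{u}} [IsAffine T] [IsAffine W] (τ : T ⟶ W)
    [SurjectiveOnStalks τ] (t : T) (hT : IsField Γ(T, (⊤ : T.Opens))) : HasFrac τ := by
  intro b
  have hTloc := (isAffineOpen_top T).isLocalization_stalk ⟨t, trivial⟩
  have hWloc := (isAffineOpen_top W).isLocalization_stalk ⟨τ t, trivial⟩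
  letI := T.presheaf.algebra_section_stalk (⟨t, trivial⟩ : (⊤ : T.Opens))
  letI := W.presheaf.algebra_section_stalk (⟨τ t, trivial⟩ : (⊤ : W.Opens))
  obtain ⟨q, hq⟩ := τ.stalkMap_surjective t (T.presheaf.germ ⊤ t trivial b)
  obtain ⟨⟨a, s⟩, has⟩ := IsLocalization.surj
    ((isAffineOpen_top W).primeIdealOf ⟨τ t, trivial⟩).asIdeal.primeCompl q
  letI : Field Γ(T, (⊤ : T.Opens)) := hT.toField
  have hnt : Nontrivial (T.presheaf.stalk t) := inferInstance
  have hinj : Function.Injective (T.presheaf.germ ⊤ t trivial) :=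
    RingHom.injective (T.presheaf.germ ⊤ t trivial).hom
  refine ⟨a, s.1, fun h0 => ?_, hinj ?_⟩
  · have hu : IsUnit (W.presheaf.germ ⊤ (τ t) trivial s.1) :=
      IsLocalization.map_units (W.presheaf.stalk (τ t)) s
    have := hu.map (τ.stalkMap t).hom
    rw [Scheme.Hom.germ_stalkMap_apply] at this
    rw [show (τ.app ⊤) s.1 = 0 from h0, map_zero] at this
    exact not_isUnit_zero this
  · have h1 := congrArg (τ.stalkMap t).hom has
    rw [map_mul, hq] at h1
    rw [map_mul, mul_comm]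
    refine (congrArg (_ * ·) ?_).trans (h1.trans ?_)
    · exact (Scheme.Hom.germ_stalkMap_apply τ ⊤ t trivial s.1).symm
    · exact Scheme.Hom.germ_stalkMap_apply τ ⊤ t trivial a

variable {X X' Y T : Scheme.{u}} [IsAffine Y] [IsAffine T] {h : X' ⟶ X} {f' : X' ⟶ T} {f : X ⟶ Y}
  {τ : T ⟶ Y}

/-- Functions dying on the fibre at `p` lie in `p`, up to a factor outside `p`. -/
theorem exists_mul_mem_of_app_eq_zero (hc : IsPullback h f' f τ) (hT : IsField Γ(T, (⊤ : T.Opens)))
    (hfrac : HasFrac τ) (O : X.Opens) (hO : IsAffineOpen O) (x : Γ(X, O)) (hx : h.app O x = 0) :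
    ∃ s ∉ RingHom.ker τ.appTop.hom, X.presheaf.map (homOfLE le_top).op (f.appTop s) * x ∈
      Ideal.map ((X.presheaf.map (homOfLE (le_top : O ≤ ⊤)).op).hom.comp f.appTop.hom)
        (RingHom.ker τ.appTop.hom) := by
  letI : Field Γ(T, (⊤ : T.Opens)) := hT.toField
  let p := RingHom.ker τ.appTop.hom
  let A' := Γ(Y, (⊤ : Y.Opens)) ⧸ p
  haveI : p.IsPrime := RingHom.ker_isPrime _
  letI : Algebra A' Γ(T, (⊤ : T.Opens)) := (RingHom.kerLift τ.appTop.hom).toAlgebra
  haveI : FaithfulSMul A' Γ(T, (⊤ : T.Opens)) :=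
    (faithfulSMul_iff_algebraMap_injective A' Γ(T, (⊤ : T.Opens))).mpr (RingHom.kerLift_injective _)
  haveI : IsFractionRing A' Γ(T, (⊤ : T.Opens)) := IsFractionRing.of_field A' _ fun b => by
    obtain ⟨a, s, hs, hb⟩ := hfrac b
    refine ⟨Ideal.Quotient.mk p a, Ideal.Quotient.mk p s, (eq_div_iff ?_).mpr ?_⟩
    · exact hs
    · rw [mul_comm]; exact hb
  let ψO := (X.presheaf.map (homOfLE (le_top : O ≤ ⊤)).op).hom.comp f.appTop.hom
  let R := Γ(X, O) ⧸ Ideal.map ψO p
  let g : A' →+* R := Ideal.quotientMap _ ψO Ideal.le_comap_map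
  let M : Submonoid R := (nonZeroDivisors A').map g.toMonoidHom
  let Q := Localization M
  let l : Γ(T, (⊤ : T.Opens)) →+* Q := IsLocalization.lift (M := nonZeroDivisors A')
    (g := (algebraMap R Q).comp g) fun y =>
      IsLocalization.map_units Q (⟨g y, y, y.2, rfl⟩ : M)
  obtain ⟨h', hp⟩ := Groth.Agent.Thick.Unram.isPushout_appLE hc (isAffineOpen_top Y) hO
    (le_of_le_of_eq le_top (Scheme.Hom.preimage_top f).symm)
  have hcomm : f.appLE ⊤ O (le_of_le_of_eq le_top (Scheme.Hom.preimage_top f).symm) ≫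
      CommRingCat.ofHom ((algebraMap R Q).comp (Ideal.Quotient.mk _)) =
        τ.app ⊤ ≫ CommRingCat.ofHom l := by
    ext a
    show algebraMap R Q (Ideal.Quotient.mk _ _) = l (algebraMap A' _ (Ideal.Quotient.mk p a))
    rw [IsLocalization.lift_eq]
    rfl
  let d := hp.desc (CommRingCat.ofHom ((algebraMap R Q).comp (Ideal.Quotient.mk _)))
    (CommRingCat.ofHom l) hcomm
  have hd : algebraMap R Q (Ideal.Quotient.mk _ x) = 0 := by
    have h1 := congr($(hp.inl_desc (CommRingCat.ofHom ((algebraMap R Q).comp (Ideal.Quotient.mk _)))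
      (CommRingCat.ofHom l) hcomm) x)
    refine h1.symm.trans ?_
    show (hp.desc _ _ hcomm) (h.app O x) = 0
    rw [hx, map_zero]
  obtain ⟨⟨_, a, ha, rfl⟩, hm⟩ := (IsLocalization.map_eq_zero_iff M Q _).mp hd
  obtain ⟨s, rfl⟩ := Ideal.Quotient.mk_surjective a
  refine ⟨s, fun hs => ?_, ?_⟩
  · exact nonZeroDivisors.ne_zero ha ((Ideal.Quotient.eq_zero_iff_mem).mpr hs)
  · refine (Ideal.Quotient.eq_zero_iff_mem).mp ?_
    rw [map_mul]
    exact hm

end Groth.Agent.FlatMor.CechH1
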