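import Groth.Agent.FlatMor.CechH1.Main
import Groth.Agent.QcSum.Space
import Groth.Agent.QcSum.Sections
import Groth.Agent.ModShf.ToSheaf
import Groth.Agent.QCoh.Exact

/-!
# Global vanishing over an affine base
-/

set_option autoImplicit false
universe u

open CategoryTheory Limits Opposite TopologicalSpace AlgebraicGeometry

namespace Groth.Agent.FlatMor.CechH1

variable {X Y : Scheme.{u}}

/-- With curve-like fibres without `H¹`, one-cocycles of the structure sheaf are coboundaries. -/
theorem exact1_global (f : X ⟶ Y) [IsProper f] [IsAffine Y]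
    (hdim : ∀ y : Y, topologicalKrullDim ↥(f.fiber y) ≤ 1)
    (hH1 : ∀ y : Y, Subsingleton (Coh.HH (f.fiber y) (Coh.structureModule (f.fiber y)) 1))
    (D : CBC.Model f ⊤) : Exact1 D.U := by
  haveI : (Coh.structureModule X).IsQuasicoherent := WeakAssSch.isQuasicoherent_unit X
  refine VanQC.cechExact_of_subsingleton_rpush D (Coh.structureModule X) (isAffineOpen_top Y) 0 ?_
  refine VanQC.subsingleton_rpush_sections f (Coh.structureModule X) 1 ⊤ fun y _ => ?_
  obtain ⟨W₀, Z, j, k, q, hG⟩ := exists_goodChart f y (hdim y) (hH1 y)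
  haveI := hG.openImm
  have := VanQC.subsingleton_stalk ((Coh.RpushAb f 1).obj (Coh.toAb (Coh.structureModule X))) j.opensRange y
    hG.mem fun W hW hle _ => ?_
  · exact @AddCommGrpCat.isZero_of_subsingleton _ this
  obtain ⟨DW⟩ := CBC.nonempty_model f hW
  haveI : IsAffine W.toScheme := hW
  let b := IsOpenImmersion.lift j W.ι (by rw [Scheme.Opens.range_ι]; exact hle)
  have hb : b ≫ j = W.ι := IsOpenImmersion.lift_fac _ _ _
  let XW := f ⁻¹ᵁ W
  have hO : IsPullback XW.ι (f ∣_ W) f W.ι := (isPullback_morphismRestrict f W).flip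
  let a := hG.sq.lift XW.ι ((f ∣_ W) ≫ b) (by rw [Category.assoc, hb]; exact hO.w)
  have hsq : IsPullback a (f ∣_ W) q b :=
    IsPullback.of_right (by rw [hG.sq.lift_fst, hb]; exact hO) (hG.sq.lift_snd _ _ _) hG.sq
  have hH := hG.subsingleton b a _ hsq
  let U' := pre DW.U XW.ι
  have hcov : iSup U' = ⊤ := top_le_iff.mp fun p _ => by
    obtain ⟨i, hi⟩ := Opens.mem_iSup.mp (DW.cov (show XW.ι p ∈ f ⁻¹ᵁ W from p.2))
    exact Opens.mem_iSup.mpr ⟨i, hi⟩
  have haff : ∀ {n : ℕ} (x : Fin (n + 1) → DW.ι), IsAffineOpen (iO U' x) := fun x => by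
    rw [iO_pre]
    refine IsAffineOpen.preimage_of_isOpenImmersion (DW.aff x) XW.ι ?_
    rw [Scheme.Opens.opensRange_ι]
    exact (CohAff.inter_le DW.U x 0).trans (DW.hU _)
  have hex := (exact1_iff_subsingleton U' hcov haff).mpr hH
  have hex' : CohAff.CechExact (X := X.toPresheafedSpace.carrier) (Coh.structureModule X).presheaf DW.U 0 := by
    refine VanQC.cechExact_of_functor (S := XW.toScheme.toPresheafedSpace.carrier) XW.ι.opensFunctor
      (Coh.structureModule X).presheaf U' DW.U (fun m x => ?_) hex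
    show XW.ι ''ᵁ (iO U' x) = iO DW.U x
    rw [iO_pre]
    ext p
    constructor
    · rintro ⟨q', hq', rfl⟩
      exact hq'
    · intro hp
      exact ⟨⟨p, DW.hU _ (CohAff.inter_le DW.U x 0 hp)⟩, hp, rfl⟩
  have h1 := VanQC.subsingleton_rpush DW (Coh.structureModule X) hW 0 hex'
  haveI : Subsingleton (((sheafToPresheaf (Opens.grothendieckTopology Y) AddCommGrpCat).obj
      ((Coh.Rpush f 1 ⋙ ModShf.toAbFunctor Y).obj (Coh.structureModule X))).obj (op W)) := h1
  exact ((((sheafToPresheaf _ _).mapIso ((ModShf.rpushCompToAb f 1).app (Coh.structureModule X))).app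
    (op W)).addCommGroupIsoToAddEquiv).symm.toEquiv.subsingleton

/-- Sections of a quotient of a free module over an affine open are finite combinations. -/
theorem exists_finset_sum {F : X.Modules} [F.IsQuasicoherent] {κ : Type u}
    (e : (∐ fun _ : κ => Coh.structureModule X) ⟶ F) [Epi e] {O : X.Opens} (hO : IsAffineOpen O)
    (m : Γ(F, O)) : ∃ (S : Finset κ) (a : κ → Γ(X, O)), m = ∑ i ∈ S, a i •
      F.presheaf.map (homOfLE le_top).op ((Sigma.ι (fun _ : κ => Coh.structureModule X) i ≫ e).app ⊤ (1 : Γ(X, ⊤))) := by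
  haveI : (Coh.structureModule X).IsQuasicoherent := WeakAssSch.isQuasicoherent_unit X
  obtain ⟨σ, rfl⟩ := QCoh.app_surjective_of_epi e hO m
  let G := SheafOfModules.toSheaf.{u} X.ringCatSheaf
  let fu : κ → X.Modules := fun _ => Coh.structureModule X
  haveI := Groth.Agent.ModShf.toSheafPreservesColimitsOfShape.{u} X.ringCatSheaf (Discrete κ)
  have hc := isColimitCofanMkObjOfIsColimit G fu (Sigma.ι fu) (coproductIsCoproduct fu)
  obtain ⟨S, hS⟩ := Groth.Agent.QcSum.exists_part_eq hc
    (Groth.Agent.QcSum.isQCSite_of_isCompact hO.isCompact) (show _ from σ)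
  rw [Groth.Agent.QcSum.part_apply] at hS
  let a : κ → Γ(X, O) := fun i => (Groth.Agent.QcSum.proj hc i).hom.app (op O) (show _ from σ)
  refine ⟨S, a, ?_⟩
  have hσ : σ = ∑ i ∈ S, (Sigma.ι fu i).app O (a i) := hS.symm
  rw [hσ, map_sum]
  refine Finset.sum_congr rfl fun i _ => ?_
  refine (Props.GenLocus.app_eq (Sigma.ι fu i ≫ e) O (a i)).trans ?_
  exact congrArg (a i • ·) (Props.GenLocus.sec_res (Sigma.ι fu i ≫ e) (le_top : O ≤ ⊤)).symm

end Groth.Agent.FlatMor.CechH1
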