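import Groth.Agent.FlatMor.CechH1.Spans
import Mathlib.LinearAlgebra.DirectSum.Finsupp
import Mathlib.LinearAlgebra.TensorProduct.RightExactness

/-!
# Relations among spanning scalars
-/

set_option autoImplicit false
universe u

open CategoryTheory Limits Opposite TopologicalSpace AlgebraicGeometry TensorProduct

namespace Groth.Agent.FlatMor.CechH1

/-- Tensors are finite sums of pure tensors. -/
theorem exists_sum_tmul {A M N : Type u} [CommRing A] [AddCommGroup M] [Module A M] [AddCommGroup N]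
    [Module A N] (w : M ⊗[A] N) : ∃ (r : ℕ) (m : Fin r → M) (ρ : Fin r → N), w = ∑ k, m k ⊗ₜ[A] ρ k := by
  induction w using TensorProduct.induction_on with
  | zero => exact ⟨0, Fin.elim0, Fin.elim0, by simp⟩
  | tmul a b => exact ⟨1, fun _ => a, fun _ => b, by simp⟩
  | add s t hs ht =>
    obtain ⟨r, m, ρ, h1⟩ := hs
    obtain ⟨r', m', ρ', h2⟩ := ht
    exact ⟨r + r', Fin.append m m', Fin.append ρ ρ', by rw [h1, h2, Fin.sum_univ_add]; simp⟩

/-- A vanishing sum of tensors comes from relations of the right factor. -/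
theorem exists_relations {A M B : Type u} [CommRing A] [AddCommGroup M] [Module A M] [AddCommGroup B]
    [Module A B] (Y : B →₀ M) (hY : Y.sum (fun b m => m ⊗ₜ[A] b) = 0) :
    ∃ (r : ℕ) (m : Fin r → M) (ρ : Fin r → (B →₀ A)),
      (∀ k, Finsupp.linearCombination A id (ρ k) = 0) ∧ ∀ b, Y b = ∑ k, ρ k b • m k := by
  classical
  let p : (B →₀ A) →ₗ[A] B := Finsupp.linearCombination A id
  have hp : Function.Surjective p := fun b => ⟨Finsupp.single b 1, by simp [p]⟩
  let v : M ⊗[A] (B →₀ A) := (TensorProduct.finsuppScalarRight A A M B).symm Y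
  have key : ∀ Z : B →₀ M, p.lTensor M ((TensorProduct.finsuppScalarRight A A M B).symm Z) =
      Z.sum (fun b m => m ⊗ₜ[A] b) := fun Z => by
    induction Z using Finsupp.induction_linear with
    | zero => simp
    | add Y₁ Y₂ h1 h2 =>
      rw [map_add, map_add, h1, h2, Finsupp.sum_add_index' (by simp) (by simp [TensorProduct.add_tmul])]
    | single b m => simp [p]
  have hv : p.lTensor M v = 0 := (key Y).trans hY
  obtain ⟨w, hw⟩ := (lTensor_exact (R := A) (M := LinearMap.ker p) (N := B →₀ A) (P := B)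
    (f := (LinearMap.ker p).subtype) (g := p) M (LinearMap.exact_subtype_ker_map p) hp v).mp hv
  obtain ⟨r, m, ρ, hw'⟩ := exists_sum_tmul (A := A) (M := M) (N := LinearMap.ker p) w
  refine ⟨r, m, fun k => (ρ k).1, fun k => (ρ k).2, fun b => ?_⟩
  have h1 : Y = TensorProduct.finsuppScalarRight A A M B ((LinearMap.ker p).subtype.lTensor M w) := by
    rw [hw]; exact ((TensorProduct.finsuppScalarRight A A M B).apply_symm_apply Y).symm
  rw [h1, hw', map_sum, map_sum, Finsupp.finsetSum_apply]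
  simp

variable {X X' : Scheme.{u}}

/-- Relations over an affine open of the spanning scalars of a base change. -/
theorem exists_relations_of_isPullback {S S' : Scheme.{u}} [IsAffine S] [IsAffine S'] {h : X' ⟶ X}
    {f' : X' ⟶ S'} {f : X ⟶ S} {τ : S' ⟶ S} (hc : IsPullback h f' f τ) {O : X.Opens}
    (hO : IsAffineOpen O) (Y : Γ(S', (⊤ : S'.Opens)) →₀ Γ(X, O))
    (hY : Y.sum (fun b m => h.app O m * X'.presheaf.map (homOfLE le_top).op (f'.appTop b)) = 0) :
    ∃ (r : ℕ) (m : Fin r → Γ(X, O)) (ρ : Fin r → (Γ(S', (⊤ : S'.Opens)) →₀ Γ(S, (⊤ : S.Opens)))),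
      (∀ k, (ρ k).sum (fun b a => τ.appTop a * b) = 0) ∧
      ∀ b, Y b = ∑ k, X.presheaf.map (homOfLE le_top).op (f.appTop (ρ k b)) * m k := by
  obtain ⟨h', hp⟩ := Groth.Agent.Thick.Unram.isPushout_appLE hc (isAffineOpen_top S) hO
    (le_of_le_of_eq le_top (Scheme.Hom.preimage_top f).symm)
  letI := (f.appLE ⊤ O (le_of_le_of_eq le_top (Scheme.Hom.preimage_top f).symm)).hom.toAlgebra
  letI := (τ.app ⊤).hom.toAlgebra
  let B := Γ(S', τ ⁻¹ᵁ ⊤)
  let e := IsPushout.isoIsPushout _ _ (CommRingCat.isPushout_tensorProduct Γ(S, (⊤ : S.Opens)) Γ(X, O) B) hp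
  have he : Function.Injective e.hom := (ConcreteCategory.bijective_of_isIso e.hom).1
  have hY' : (Finsupp.sum (show B →₀ Γ(X, O) from Y) fun b m => m ⊗ₜ[Γ(S, (⊤ : S.Opens))] b) = 0 := by
    apply he
    rw [map_zero, ← hY, map_finsuppSum]
    refine Finsupp.sum_congr fun b _ => ?_
    have h1 : e.hom ((show B →₀ Γ(X, O) from Y) b ⊗ₜ 1) = h.app O ((show B →₀ Γ(X, O) from Y) b) :=
      congr($(IsPushout.inl_isoIsPushout_hom _ _ (CommRingCat.isPushout_tensorProduct Γ(S, (⊤ : S.Opens)) Γ(X, O) B) hp) _)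
    have h2 : e.hom (1 ⊗ₜ b) = X'.presheaf.map (homOfLE le_top).op (f'.appTop b) :=
      congr($(IsPushout.inr_isoIsPushout_hom _ _ (CommRingCat.isPushout_tensorProduct Γ(S, (⊤ : S.Opens)) Γ(X, O) B) hp) b)
    refine Eq.trans ?_ (congrArg₂ (· * ·) h1 h2)
    rw [← map_mul, Algebra.TensorProduct.tmul_mul_tmul, mul_one, one_mul]
  obtain ⟨r, m, ρ, hρ, hb⟩ := exists_relations _ hY'
  refine ⟨r, m, ρ, fun k => (Finsupp.linearCombination_apply _ _).symm.trans (hρ k), fun b => (hb b).trans ?_⟩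
  exact Finset.sum_congr rfl fun k _ => rfl

end Groth.Agent.FlatMor.CechH1
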