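import Groth.Agent.VanQC.Cech
import Groth.Agent.Props.GenLocus
import Groth.Agent.VBLib.Basic
import Groth.Agent.Props.SubExt

/-!
# Lifting Čech one-cocycles along finitely many sections

When the Čech cohomology of quasi-coherent modules vanishes above degree one, a one-cocycle which is
pointwise a combination of global sections `s j` is a combination of the `s j` with cocycles of the
structure sheaf as coefficients.
-/

set_option autoImplicit false
universe u

open CategoryTheory Limits Opposite TopologicalSpace AlgebraicGeometry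

namespace Groth.Agent.FlatMor.CechH1

open Groth.Agent.CohAff (inter inter_le Cochain cd cd_apply cmap cd_cmap cmap_apply)

variable {X : Scheme.{u}}

/-- Cochains of a module on a family of opens of a scheme. -/
abbrev Coch (M : X.Modules) {ι : Type u} (U : ι → X.Opens) (n : ℕ) : Type u :=
  Cochain (X := X.toPresheafedSpace.carrier) M.presheaf U n

/-- Intersections of a family of opens of a scheme. -/
noncomputable abbrev iO {ι : Type u} (U : ι → X.Opens) {n : ℕ} (x : Fin n → ι) : X.Opens :=
  inter (X := X.toPresheafedSpace.carrier) U x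

/-- The kernel of a map of modules computes the kernel on sections. -/
theorem exists_kernel_app {M N : X.Modules} (φ : M ⟶ N) (U : X.Opens) (m : Γ(M, U))
    (hm : φ.app U m = 0) : ∃ k : Γ(kernel φ, U), (kernel.ι φ).app U k = m := by
  let G := Scheme.Modules.toPresheaf X ⋙ (evaluation _ AddCommGrpCat.{u}).obj (op U)
  haveI : G.Additive := { }
  haveI : PreservesFiniteLimits ((evaluation X.Opensᵒᵖ AddCommGrpCat.{u}).obj (op U)) :=
    ⟨fun _ _ _ => evaluation_preservesLimitsOfShape _⟩
  haveI : PreservesFiniteLimits G := comp_preservesFiniteLimits (Scheme.Modules.toPresheaf X) _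
  have h := (ShortComplex.ab_exact_iff _).mp
    ((ShortComplex.exact_of_f_is_kernel _ (isLimitForkMapOfIsLimit' G (kernel.condition φ)
      (kernelIsKernel φ)) :
      (ShortComplex.mk (G.map (kernel.ι φ)) (G.map φ)
        (by rw [← G.map_comp, kernel.condition, G.map_zero])).Exact)) m hm
  exact h

/-- Sums of morphisms are computed on sections. -/
theorem sum_app {M N : X.Modules} {κ : Type*} (t : Finset κ) (g : κ → (M ⟶ N)) (U : X.Opens)
    (m : Γ(M, U)) : (∑ j ∈ t, g j).app U m = ∑ j ∈ t, (g j).app U m :=
  map_sum (AddMonoidHom.mk' (fun f : M ⟶ N => f.app U m) fun _ _ => rfl) g t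

/-- Kernels are subsheaves. -/
theorem kernel_app_injective {M N : X.Modules} (φ : M ⟶ N) (U : X.Opens) :
    Function.Injective ((kernel.ι φ).app U) := by
  let G := Scheme.Modules.toPresheaf X ⋙ (evaluation _ AddCommGrpCat.{u}).obj (op U)
  haveI : PreservesFiniteLimits ((evaluation X.Opensᵒᵖ AddCommGrpCat.{u}).obj (op U)) :=
    ⟨fun _ _ _ => evaluation_preservesLimitsOfShape _⟩
  haveI : PreservesFiniteLimits G := comp_preservesFiniteLimits (Scheme.Modules.toPresheaf X) _
  exact (AddCommGrpCat.mono_iff_injective (G.map (kernel.ι φ))).mp inferInstance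

variable {ι : Type u} {U : ι → X.Opens}

/-- **The lifting lemma.** -/
theorem exists_cocycle_lift (hvan : VanQC.Van U 1) (N : X.Modules) [N.IsQuasicoherent] {r : ℕ}
    (s : Fin r → Γ(N, (⊤ : X.Opens))) (z : Coch N U 1) (hz : cd N.presheaf U 1 z = 0)
    (hspan : ∀ x, ∃ a : Fin r → Γ(X, iO U x),
      z x = ∑ j, a j • N.presheaf.map (homOfLE le_top).op (s j)) :
    ∃ c : Fin r → Coch (Coh.structureModule X) U 1,
      (∀ j, cd (Coh.structureModule X).presheaf U 1 (c j) = 0) ∧
      ∀ x, z x = ∑ j, (show Γ(X, iO U x) from c j x) • N.presheaf.map (homOfLE le_top).op (s j) := by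
  classical
  choose a ha using hspan
  let P := FlatMod.freeMod X r
  haveI : P.IsQuasicoherent := VBLib.isQuasicoherent_freeMod X r
  let ι' := fun k => Sigma.ι (fun _ : Fin r => Coh.structureModule X) k
  let π : Fin r → (P ⟶ Coh.structureModule X) := fun k =>
    Sigma.desc fun j => if j = k then 𝟙 _ else 0
  have hιπ : ∀ j k, ι' j ≫ π k = if j = k then 𝟙 _ else 0 := fun j k => Sigma.ι_desc _ _
  let g : P ⟶ N := Sigma.desc fun j => Props.GenLocus.homOfSec (s j)
  have hg : g = ∑ j, π j ≫ Props.GenLocus.homOfSec (s j) := by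
    refine Sigma.hom_ext _ _ fun j => ?_
    rw [Preadditive.comp_sum, Sigma.ι_desc, Finset.sum_eq_single j]
    · rw [← Category.assoc, hιπ, if_pos rfl, Category.id_comp]
    · intro k _ hk
      rw [← Category.assoc, hιπ, if_neg (Ne.symm hk), zero_comp]
    · intro h
      exact absurd (Finset.mem_univ j) h
  have hgapp : ∀ (V : X.Opens) (m : Γ(P, V)), g.app V m =
      ∑ j, (show Γ(X, V) from (π j).app V m) • N.presheaf.map (homOfLE le_top).op (s j) := by
    intro V m
    rw [hg, sum_app]
    refine Finset.sum_congr rfl fun j _ => ?_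
    refine (Props.GenLocus.app_eq (Props.GenLocus.homOfSec (s j)) V ((π j).app V m)).trans ?_
    rw [Props.GenLocus.sec_homOfSec]
  -- lift the cochain
  let c : Coch P U 1 := fun x => ∑ j, (ι' j).app (iO U x) (a x j)
  have hπc : ∀ j x, (π j).app (iO U x) (c x) = a x j := by
    intro j x
    rw [map_sum, Finset.sum_eq_single j]
    · refine congr($(congrArg (fun φ : Coh.structureModule X ⟶ Coh.structureModule X =>
        Scheme.Modules.Hom.app φ (iO U x)) ((hιπ j j).trans (if_pos rfl))) (a x j))
    · intro k _ hk
      exact congr($(congrArg (fun φ : Coh.structureModule X ⟶ Coh.structureModule X =>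
        Scheme.Modules.Hom.app φ (iO U x)) ((hιπ k j).trans (if_neg hk))) (a x k))
    · intro h
      exact absurd (Finset.mem_univ j) h
  have hgc : cmap g.mapPresheaf U 1 c = z := by
    funext x
    refine ((hgapp _ _).trans ?_).trans (ha x).symm
    exact Finset.sum_congr rfl fun j _ => by rw [hπc]
  -- correct it by a cochain of the kernel
  haveI := QCoh.isQuasicoherent_kernel g
  have hk : ∀ x, g.app _ (cd P.presheaf U 1 c x) = 0 := fun x => by
    have h := congrFun (cd_cmap g.mapPresheaf U 1 c) x
    rw [hgc, hz] at h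
    exact h.symm
  choose k hk using fun x => exists_kernel_app g _ _ (hk x)
  have hkmap : cmap (kernel.ι g).mapPresheaf U 2 k = cd P.presheaf U 1 c := funext hk
  have hinj := kernel_app_injective g
  have hdk : cd (kernel g).presheaf U 2 k = 0 := by
    funext x
    apply hinj
    have h := congrFun (cd_cmap (kernel.ι g).mapPresheaf U 2 k) x
    rw [hkmap, CohAff.cd_cd] at h
    exact h.symm.trans (map_zero _).symm
  obtain ⟨e, he⟩ := hvan (kernel g) ‹_› 1 le_rfl k hdk
  let c' : Coch P U 1 := c - cmap (kernel.ι g).mapPresheaf U 1 e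
  have hdc' : cd P.presheaf U 1 c' = 0 := by
    show cd P.presheaf U 1 (c - cmap (kernel.ι g).mapPresheaf U 1 e) = 0
    rw [map_sub, cd_cmap, he, hkmap, sub_self]
  have hgc' : cmap g.mapPresheaf U 1 c' = z := by
    show cmap g.mapPresheaf U 1 (c - cmap (kernel.ι g).mapPresheaf U 1 e) = z
    rw [map_sub, hgc, ← CohAff.cmap_comp, sub_eq_self]
    funext x
    exact congr($(congrArg (fun φ : kernel g ⟶ N => Scheme.Modules.Hom.app φ (iO U x))
      (kernel.condition g)) (e x))
  refine ⟨fun j => cmap (π j).mapPresheaf U 1 c', fun j => ?_, fun x => ?_⟩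
  · rw [cd_cmap, hdc', map_zero]
  · exact (congrFun hgc' x).symm.trans (hgapp _ _)

end Groth.Agent.FlatMor.CechH1
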