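import Groth.Agent.VanQC.Model
import Groth.Agent.FlatMor.CechH1.Spans

/-!
# Noetherian models whose sections span those of a proper scheme
-/

set_option autoImplicit false

universe u

open CategoryTheory Limits Opposite TopologicalSpace AlgebraicGeometry

namespace Groth.Agent.FlatMor.CechH1

/-- Near a point, `f` maps affinely to a noetherian proper model with small fibres, with sections
spanned by the scalars of the base. -/
theorem exists_spans_model {X Y : Scheme.{u}} (f : X ⟶ Y) [IsProper f] [IsAffine Y] (y : Y) (d : ℕ)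
    (hd : topologicalKrullDim ↥(f.fiber y) ≤ d) :
    ∃ V : Y.Opens, IsAffineOpen V ∧ y ∈ V ∧ ∃ (X₀ Y₀ : Scheme.{u}) (f₀ : X₀ ⟶ Y₀),
      IsAffine Y₀ ∧ IsNoetherian Y₀ ∧ IsProper f₀ ∧
      (∀ z, topologicalKrullDim ↥(f₀.fiber z) ≤ d) ∧
      ∃ h : (f ⁻¹ᵁ V).toScheme ⟶ X₀, IsAffineHom h ∧
        Spans h ((f ∣_ V) ≫ V.ι).appTop.hom ∧ ∃ τ₀ : V.toScheme ⟶ Y₀, h ≫ f₀ = (f ∣_ V) ≫ τ₀ := by
  obtain ⟨X₁, i, f₁, hi, hf₁, hfp, hif, hpts⟩ := VanQC.exists_fp_over f y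
  haveI := hi; haveI := hf₁; haveI := hfp
  have hd₁ : topologicalKrullDim ↥(f₁.fiber y) ≤ d := by
    let m : (f ⁻¹' {y} : Set X) → (f₁ ⁻¹' {y} : Set X₁) := Set.codRestrict (fun x => i x.1) _
      fun x => by
        show f₁ (i x.1) = y
        rw [← Scheme.Hom.comp_apply, hif]
        exact x.2
    have hm : IsHomeomorph m := isHomeomorph_iff_isEmbedding_surjective.mpr
      ⟨(i.isEmbedding.comp Topology.IsEmbedding.subtypeVal).codRestrict _ _, fun p => by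
        obtain ⟨x, hx⟩ := hpts p.1 p.2
        have hxy : f x = y := by rw [← hif, Scheme.Hom.comp_apply, hx]; exact p.2
        exact ⟨⟨x, hxy⟩, Subtype.ext hx⟩⟩
    rw [(f₁.fiberHomeo y).isHomeomorph.topologicalKrullDim_eq, ← hm.topologicalKrullDim_eq,
      ← (f.fiberHomeo y).isHomeomorph.topologicalKrullDim_eq]
    exact hd
  let A := Γ(Y, ⊤)
  letI : Algebra (ULift.{u} ℤ) A := ((Int.castRingHom A).comp ULift.ringEquiv.toRingHom).toAlgebra
  let f₂ : X₁ ⟶ Spec (CommRingCat.of A) := f₁ ≫ Y.isoSpec.hom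
  haveI : IsProper f₂ := inferInstanceAs (IsProper (f₁ ≫ Y.isoSpec.hom))
  haveI : LocallyOfFinitePresentation f₂ :=
    inferInstanceAs (LocallyOfFinitePresentation (f₁ ≫ Y.isoSpec.hom))
  haveI : CompactSpace X₁ := QuasiCompact.compactSpace_of_compactSpace f₁
  haveI : QuasiSeparatedSpace X₁ := quasiSeparatedSpace_of_quasiSeparated f₁
  let c := LimLib.fgCone (ULift.{u} ℤ) A
  haveI : @LocallyOfFinitePresentation X₁ c.pt f₂ := ‹LocallyOfFinitePresentation f₂›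
  haveI : @IsProper X₁ c.pt f₂ := ‹IsProper f₂›
  obtain ⟨s, X₂, g₂, q₂, h₁, h₂, h₃, h⟩ := LimLib.hasModel (LimLib.isLimitFgCone (ULift.{u} ℤ) A) (X := X₁) f₂
  haveI := h₁; haveI := h₂; haveI := h₃
  obtain ⟨j, φ, hj⟩ := LimLib.descends_isProper (LimLib.fgDiagram (ULift.{u} ℤ) A) c (LimLib.isLimitFgCone (ULift.{u} ℤ) A)
    (fun _ _ _ => inferInstance) (fun _ => inferInstance) (fun _ => inferInstance) s X₂ g₂ h₂ h₃
    inferInstance X₁ q₂ f₂ h inferInstance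
  obtain ⟨-, -, -, hsq⟩ := LimLib.HasModel.at_finer (c := c) (f := f₂) (g := q₂) h₁ h₂ h₃ h φ
  let Xj := pullback g₂ ((LimLib.fgDiagram (ULift.{u} ℤ) A).map φ)
  let fj : Xj ⟶ (LimLib.fgDiagram (ULift.{u} ℤ) A).obj j := pullback.snd _ _
  haveI : IsProper fj := hj
  let τ : Y ⟶ (LimLib.fgDiagram (ULift.{u} ℤ) A).obj j := Y.isoSpec.hom ≫ c.π.app j
  haveI : IsNoetherianRing (Algebra.adjoin (ULift.{u} ℤ) (j.unop : Set A)) := by
    haveI : IsNoetherianRing (ULift.{u} ℤ) := isNoetherianRing_of_ringEquiv ℤ ULift.ringEquiv.symm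
    haveI : Algebra.FiniteType (ULift.{u} ℤ) (Algebra.adjoin (ULift.{u} ℤ) (j.unop : Set A)) :=
      (Subalgebra.fg_iff_finiteType _).mp ⟨j.unop, rfl⟩
    exact Algebra.FiniteType.isNoetherianRing (ULift.{u} ℤ) _
  haveI : IsNoetherian ((LimLib.fgDiagram (ULift.{u} ℤ) A).obj j) :=
    inferInstanceAs (IsNoetherian (Spec (CommRingCat.of (Algebra.adjoin (ULift.{u} ℤ) (j.unop : Set A)))))
  -- the square over `Y`
  obtain ⟨kj, hpb⟩ : ∃ kj : X₁ ⟶ Xj, IsPullback kj f₁ fj τ :=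
    ⟨_, hsq.of_iso (Iso.refl _) (Iso.refl _) Y.isoSpec.symm (Iso.refl _)
      ((Category.comp_id _).trans (Category.id_comp _).symm)
      ((Category.assoc _ _ _).trans ((congrArg (f₁ ≫ ·) Y.isoSpec.hom_inv_id).trans
        ((Category.comp_id _).trans (Category.id_comp _).symm)))
      ((Category.comp_id _).trans (Category.id_comp _).symm)
      ((Category.comp_id _).trans (Y.isoSpec.inv_hom_id_assoc _).symm)⟩
  haveI : IsAffineHom τ := inferInstance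
  haveI : IsAffineHom kj := MorphismProperty.of_isPullback hpb.flip ‹IsAffineHom τ›
  have hy₀ : topologicalKrullDim ↥(fj.fiber (τ y)) ≤ d :=
    (Groth.Agent.S9777.result fj τ f₁ kj hpb y).symm.trans_le hd₁
  obtain ⟨_, ⟨V₀, hV₀, rfl⟩, hyV₀, hle⟩ :=
    ((LimLib.fgDiagram (ULift.{u} ℤ) A).obj j).isBasis_affineOpens.exists_subset_of_mem_open
      (show τ y ∈ {z | topologicalKrullDim ↥(fj.fiber z) ≤ d} from hy₀)
      (Groth.Agent.S0403.result fj d)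
  refine ⟨τ ⁻¹ᵁ V₀, hV₀.preimage τ, hyV₀, (fj ⁻¹ᵁ V₀).toScheme, Scheme.Opens.toScheme V₀, fj ∣_ V₀, hV₀,
    ?_, inferInstance, fun z => ?_, ?_⟩
  · haveI : IsAffine (Scheme.Opens.toScheme V₀) := hV₀
    haveI : IsLocallyNoetherian (Scheme.Opens.toScheme V₀) :=
      LocallyOfFiniteType.isLocallyNoetherian (Scheme.Opens.ι V₀)
    exact { }
  · rw [VanQC.dim_fiber_restrict]
    exact hle z.2
  · let k : X ⟶ Xj := i ≫ kj
    haveI : IsAffineHom k := inferInstanceAs (IsAffineHom (i ≫ kj))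
    have hk : k ≫ fj = f ≫ τ := by
      show (i ≫ kj) ≫ fj = f ≫ τ
      rw [Category.assoc, hpb.w, ← Category.assoc, hif]
    haveI : IsAffine ((LimLib.fgDiagram (ULift.{u} ℤ) A).obj j) := inferInstance
    have hsp : Spans k f.appTop.hom := by
      have h1 := (spans_of_isPullback hpb).comp_closed i
      rwa [show i.appTop.hom.comp f₁.appTop.hom = f.appTop.hom by
        rw [← hif, Scheme.Hom.comp_appTop]; rfl] at h1
    have hW : f ⁻¹ᵁ (τ ⁻¹ᵁ V₀) = k ⁻¹ᵁ (fj ⁻¹ᵁ V₀) := by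
      rw [← Scheme.Hom.comp_preimage, ← Scheme.Hom.comp_preimage, hk]
    refine ⟨k.resLE (fj ⁻¹ᵁ V₀) (f ⁻¹ᵁ (τ ⁻¹ᵁ V₀)) hW.le, ?_, ?_, τ ∣_ V₀, ?_⟩
    · haveI hres : IsAffineHom (k ∣_ (fj ⁻¹ᵁ V₀)) := IsZariskiLocalAtTarget.restrict ‹IsAffineHom k› _
      have key : ∀ (W : X.Opens) (e : W = k ⁻¹ᵁ (fj ⁻¹ᵁ V₀)), IsAffineHom (k.resLE (fj ⁻¹ᵁ V₀) W e.le) := by
        rintro W rfl
        rw [Scheme.Hom.resLE_eq_morphismRestrict]
        exact hres
      exact key _ hW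
    · have h1 := hsp.restrict (f ⁻¹ᵁ (τ ⁻¹ᵁ V₀)) (fj ⁻¹ᵁ V₀) hW
      rwa [show (f ⁻¹ᵁ (τ ⁻¹ᵁ V₀)).ι.appTop.hom.comp f.appTop.hom =
          ((f ∣_ (τ ⁻¹ᵁ V₀)) ≫ (τ ⁻¹ᵁ V₀).ι).appTop.hom by
        rw [morphismRestrict_ι, Scheme.Hom.comp_appTop]; rfl] at h1
    · rw [← cancel_mono (Scheme.Opens.ι V₀), Category.assoc, morphismRestrict_ι, Scheme.Hom.resLE_comp_ι_assoc, hk,
        Category.assoc, morphismRestrict_ι, morphismRestrict_ι_assoc]

end Groth.Agent.FlatMor.CechH1
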