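import Groth.Agent.FlatMor.CechH1.Fibre
import Groth.Agent.FlatMor.CechH1.Model
import Groth.Agent.CBC.Setup
import Groth.Agent.FormalFun.Finite
import Groth.Agent.ProperFin.Supp
import Groth.Agent.CohTop.CechBasic
import Groth.Agent.CohTop.Restrict
import Groth.Agent.LocCoh.Punctured
import Groth.Agent.CohLin.Basic

/-!
# `H¹` vanishes near a curve-like fibre with vanishing `H¹`
-/

set_option autoImplicit false
universe u

open CategoryTheory Limits Opposite TopologicalSpace AlgebraicGeometry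

namespace Groth.Agent.FlatMor.CechH1

variable {X Y : Scheme.{u}}

/-- The Čech complex of an acyclic affine family computes the first cohomology. -/
theorem exact1_iff_subsingleton {ι : Type u} (U : ι → X.Opens) (hcov : iSup U = ⊤)
    (haff : ∀ {n : ℕ} (x : Fin (n + 1) → ι), IsAffineOpen (iO U x)) :
    Exact1 U ↔ Subsingleton (Coh.HH X (Coh.structureModule X) 1) := by
  haveI : (Coh.structureModule X).IsQuasicoherent := WeakAssSch.isQuasicoherent_unit X
  obtain ⟨c⟩ := CohTop.CechBasic.cech_eq_HU U 1 (Coh.toAb (Coh.structureModule X))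
    (fun m x q => LocCoh.Punctured.subsingleton_HU_of_isAffineOpen _ (haff x) q)
  have e : CohTop.cechH (Coh.toAb (Coh.structureModule X)).obj U 1 ≃+
      CohTop.HU (Coh.toAb (Coh.structureModule X)) 1 ⊤ := hcov ▸ c
  have e' := e.trans (CohTop.Basic.HEquivHUTop (Coh.toAb (Coh.structureModule X)) 1).symm
  constructor
  · intro hex
    have h1 : Subsingleton (CohTop.cechH (Coh.toAb (Coh.structureModule X)).obj U 1) :=
      AddCommGrpCat.subsingleton_of_isZero
        ((CohAff.isZero_homology_iff_cechExact _ U 0).mpr hex)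
    exact e'.symm.toEquiv.subsingleton
  · intro h
    have h1 : Subsingleton (CohTop.cechH (Coh.toAb (Coh.structureModule X)).obj U 1) :=
      e'.toEquiv.subsingleton
    exact (CohAff.isZero_homology_iff_cechExact _ U 0).mp (@AddCommGrpCat.isZero_of_subsingleton _ h1)

/-- Over a Noetherian affine base the first cohomology is finite. -/
theorem finite_base {S : Scheme.{u}} (f : X ⟶ S) [IsProper f] [IsAffine S] [IsNoetherian S]
    (D : CBC.Model f ⊤) : Module.Finite Γ(S, (⊤ : S.Opens)) ((C f.appTop.hom D.U).H₀ 1) := by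
  haveI : IsNoetherianRing Γ(S, (⊤ : S.Opens)) :=
    IsLocallyNoetherian.component_noetherian ⟨⊤, isAffineOpen_top S⟩
  haveI : IsLocallyNoetherian X := LocallyOfFiniteType.isLocallyNoetherian f
  exact CBC.finite_H₀ (isAffineOpen_top S) D (Coh.structureModule X)
    (Groth.Agent.ProperFin.isCoh_structureModule X)
    (fun A _ _ Z _ _ M hM n => Groth.Agent.FormalFun.finiteCoh_of_proper A Z M hM n) 1

/-- An exact acyclic family near a point. -/
structure IsGoodChart (f : X ⟶ Y) (y : Y) {W Z : Scheme.{u}} (j : W ⟶ Y) (k : Z ⟶ X) (q : Z ⟶ W) : Prop where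
  affine : IsAffine W
  openImm : IsOpenImmersion j
  mem : y ∈ Set.range j
  sq : IsPullback k q f j
  chart : ∃ (ι : Type u) (_ : Finite ι) (U : ι → Z.Opens), iSup U = ⊤ ∧
    (∀ {n : ℕ} (x : Fin (n + 1) → ι), IsAffineOpen (iO U x)) ∧ VanQC.Van U 1 ∧ Exact1 U

/-- A morphism to an affine scheme from a field valued point has a subsingleton source. -/
theorem subsingleton_of_isField {T : Scheme.{u}} [IsAffine T] (hT : IsField Γ(T, (⊤ : T.Opens))) :
    Subsingleton T := by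
  letI := hT.toField
  haveI : Subsingleton ↥(Spec Γ(T, (⊤ : T.Opens))) :=
    inferInstanceAs (Subsingleton (PrimeSpectrum Γ(T, (⊤ : T.Opens))))
  exact T.isoSpec.hom.homeomorph.toEquiv.subsingleton

/-- Over an affine base, `H¹` of the structure sheaf vanishes near a point with curve-like fibre
without `H¹`. -/
theorem exists_goodChart_of_isAffine (f : X ⟶ Y) [IsProper f] [IsAffine Y] (y : Y)
    (hd : topologicalKrullDim ↥(f.fiber y) ≤ 1) {T X' : Scheme.{u}} [IsAffine T] (τ : T ⟶ Y) (t : T)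
    (ht : τ t = y) (hT : IsField Γ(T, (⊤ : T.Opens))) (hfrac : HasFrac τ) (h : X' ⟶ X) (f' : X' ⟶ T)
    (hc : IsPullback h f' f τ) (hH1 : Subsingleton (Coh.HH X' (Coh.structureModule X') 1)) :
    ∃ (W Z : Scheme.{u}) (j : W ⟶ Y) (k : Z ⟶ X) (q : Z ⟶ W), IsGoodChart f y j k q := by
  obtain ⟨V, hV, hyV, X₀, Y₀, f₀, hY₀, hN, hf₀, hdim, g, hg, hsp, τ₀, hτ₀⟩ :=
    exists_spans_model f y 1 hd
  haveI := hY₀; haveI := hN; haveI := hf₀; haveI := hg
  haveI : IsAffine V.toScheme := hV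
  let fV := f ∣_ V
  -- the chart on the model
  obtain ⟨D⟩ := CBC.nonempty_model f₀ (isAffineOpen_top Y₀)
  haveI : IsLocallyNoetherian X₀ := LocallyOfFiniteType.isLocallyNoetherian f₀
  haveI : CompactSpace X₀ := QuasiCompact.compactSpace_of_compactSpace f₀
  have haff₀ : ∀ {n : ℕ} (x : Fin (n + 1) → D.ι), IsAffineOpen (iO D.U x) := D.aff
  have hvan₀ : VanQC.Van D.U 1 := VanQC.van_of_coh D.U D.aff 1 fun G hG n hn => by
    haveI : G.IsQuasicoherent := hG.1
    refine VanQC.cechExact_of_subsingleton_rpush D G (isAffineOpen_top Y₀) n ?_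
    exact VanQC.subsingleton_rpush_sections f₀ G (n + 1) ⊤ fun z _ =>
      FormalVan.isZero_stalk_RpushAb f₀ z 1 (hdim z) G hG (n + 1) (Nat.lt_succ_of_le hn)
  have hcov₀ : iSup D.U = ⊤ := top_le_iff.mp D.cov
  haveI := finite_base f₀ D
  -- the chart on `f ⁻¹ V`
  let U := pre D.U g
  have haff : ∀ {n : ℕ} (x : Fin (n + 1) → D.ι), IsAffineOpen (iO U x) :=
    fun x => isAffineOpen_iO_pre D.U g haff₀ x
  have hvan : VanQC.Van U 1 := van_pre D.U g hvan₀
  have hspV : Spans g fV.appTop.hom := fun O hO b => by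
    obtain ⟨r, c, β, hb⟩ := hsp O hO b
    refine ⟨r, c, fun i => V.ι.appTop (β i), hb.trans (Finset.sum_congr rfl fun i _ => ?_)⟩
    rw [Scheme.Hom.comp_appTop]
    rfl
  haveI hfin : Module.Finite Γ(V.toScheme, ⊤) ((C fV.appTop.hom U).H₀ 1) :=
    finite_pre g f₀.appTop.hom fV.appTop.hom hvan₀ haff₀ hspV τ₀.appTop.hom (by
      rw [← CommRingCat.hom_comp, ← CommRingCat.hom_comp, ← Scheme.Hom.comp_appTop,
        ← Scheme.Hom.comp_appTop, hτ₀])
  -- the fibre square over `V`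
  haveI := subsingleton_of_isField hT
  have hrange : Set.range τ ⊆ Set.range V.ι := by
    rintro _ ⟨t', rfl⟩
    rw [Subsingleton.elim t' t, ht, Scheme.Opens.range_ι]
    exact hyV
  let τV := IsOpenImmersion.lift V.ι τ hrange
  have hτV : τV ≫ V.ι = τ := IsOpenImmersion.lift_fac _ _ _
  have hrange' : Set.range h ⊆ Set.range (f ⁻¹ᵁ V).ι := by
    rintro _ ⟨x, rfl⟩
    rw [Scheme.Opens.range_ι]
    show f (h x) ∈ V
    rw [← Scheme.Hom.comp_apply, hc.w, Scheme.Hom.comp_apply, Subsingleton.elim (f' x) t, ht]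
    exact hyV
  let hV' := IsOpenImmersion.lift (f ⁻¹ᵁ V).ι h hrange'
  have hhV : hV' ≫ (f ⁻¹ᵁ V).ι = h := IsOpenImmersion.lift_fac _ _ _
  have hcV : IsPullback hV' f' fV τV := by
    refine IsPullback.of_right (by rw [hhV, hτV]; exact hc) ?_ (isPullback_morphismRestrict f V).flip
    rw [← cancel_mono V.ι, Category.assoc, morphismRestrict_ι, reassoc_of% hhV, Category.assoc, hτV, hc.w]
  haveI : IsAffineHom hV' := MorphismProperty.of_isPullback (P := @IsAffineHom) hcV.flip inferInstance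
  have hfracV : HasFrac τV := fun b => by
    obtain ⟨a, s, hs, hb⟩ := hfrac b
    rw [← hτV, Scheme.Hom.comp_appTop] at hs hb
    exact ⟨V.ι.appTop a, V.ι.appTop s, hs, hb⟩
  have hexfib : Exact1 (pre U hV') :=
    (exact1_iff_subsingleton (pre U hV') (iSup_pre U hV' (iSup_pre D.U g hcov₀))
      (fun x => isAffineOpen_iO_pre U hV' haff x)).mpr hH1
  letI : Field Γ(T, (⊤ : T.Opens)) := hT.toField
  haveI : (RingHom.ker τV.appTop.hom).IsPrime := RingHom.ker_isPrime _
  obtain ⟨r, hr, hkill⟩ := exists_killed hV' fV.appTop.hom f'.appTop.hom hvan haff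
    (spans_of_isPullback hcV) τV.appTop.hom (by
      rw [← CommRingCat.hom_comp, ← CommRingCat.hom_comp, ← Scheme.Hom.comp_appTop,
        ← Scheme.Hom.comp_appTop, hcV.w])
    (RingHom.ker τV.appTop.hom)
    (fun b => by obtain ⟨a, s, hs, hb⟩ := hfracV b; exact ⟨a, s, hs, hb⟩)
    (fun O hO x hx => exists_mul_mem_of_app_eq_zero hcV hT hfracV O hO x hx) hexfib
  -- localise
  let T2 := V.toScheme.basicOpen r
  haveI : IsAffine T2.toScheme := (isAffineOpen_top V.toScheme).basicOpen r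
  have hT2 : τV t ∈ T2 := by
    have : t ∈ τV ⁻¹ᵁ T2 := by
      rw [Scheme.preimage_basicOpen_top, Scheme.basicOpen_of_isUnit _ (isUnit_iff_ne_zero.mpr hr)]
      trivial
    exact this
  have hsq2 : IsPullback (fV ⁻¹ᵁ T2).ι (fV ∣_ T2) fV T2.ι := (isPullback_morphismRestrict fV T2).flip
  refine ⟨T2.toScheme, (fV ⁻¹ᵁ T2).toScheme, T2.ι ≫ V.ι, (fV ⁻¹ᵁ T2).ι ≫ (f ⁻¹ᵁ V).ι, fV ∣_ T2,
    ⟨inferInstance, inferInstance, ⟨⟨_, hT2⟩, ?_⟩,
      hsq2.paste_horiz (isPullback_morphismRestrict f V).flip, ?_⟩⟩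
  · show V.ι (τV t) = y
    rw [← Scheme.Hom.comp_apply, hτV, ht]
  haveI : IsAffineHom (fV ⁻¹ᵁ T2).ι := MorphismProperty.of_isPullback (P := @IsAffineHom) hsq2.flip inferInstance
  have hsp2 := spans_of_isPullback hsq2
  refine ⟨D.ι, inferInstance, pre U (fV ⁻¹ᵁ T2).ι, iSup_pre U _ (iSup_pre D.U g hcov₀),
    fun x => isAffineOpen_iO_pre U _ haff x, van_pre U _ hvan, fun z hz => ?_⟩
  obtain ⟨m, β, c, hc', hzc⟩ :=
    exists_pull_lift (fV ⁻¹ᵁ T2).ι fV.appTop.hom (fV ∣_ T2).appTop.hom hvan haff hsp2 z hz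
  choose s hs using fun i => hkill (c i) (hc' i)
  let σ := T2.ι.appTop.hom
  have hσ : (fV ∣_ T2).appTop.hom.comp σ = (fV ⁻¹ᵁ T2).ι.appTop.hom.comp fV.appTop.hom := by
    rw [← CommRingCat.hom_comp, ← CommRingCat.hom_comp, ← Scheme.Hom.comp_appTop,
      ← Scheme.Hom.comp_appTop, hsq2.w]
  obtain ⟨u', hu'⟩ : IsUnit (σ r) := by
    have h2 : IsUnit (V.toScheme.presheaf.map (homOfLE (le_top : T2 ≤ ⊤)).op r) :=
      V.toScheme.toRingedSpace.isUnit_res_basicOpen r
    have h3 := h2.map (V.toScheme.presheaf.map (homOfLE (show T2.ι ''ᵁ ⊤ ≤ T2 by simp)).op).hom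
    show IsUnit (T2.ι.appTop r)
    rw [Scheme.Opens.ι_appTop]
    rw [← CommRingCat.comp_apply, ← Functor.map_comp] at h3
    exact h3
  refine ⟨∑ i, (β i * (↑u'⁻¹ : Γ(T2.toScheme, ⊤))) •
    pullC U (fV ⁻¹ᵁ T2).ι fV.appTop.hom (fV ∣_ T2).appTop.hom 0 (s i), ?_⟩
  refine (map_sum ((C (fV ∣_ T2).appTop.hom (pre U (fV ⁻¹ᵁ T2).ι)).d 0) _ _).trans (Eq.trans ?_ hzc.symm)
  refine Finset.sum_congr rfl fun i _ => ?_
  rw [map_smul, ← pullC_d, hs i, pullC_smul _ _ _ σ hσ, smul_smul, mul_assoc, ← hu', Units.inv_mul, mul_one]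

/-- **`H¹` of the structure sheaf vanishes near a curve-like fibre without `H¹`.** -/
theorem exists_goodChart (f : X ⟶ Y) [IsProper f] (y : Y) (hd : topologicalKrullDim ↥(f.fiber y) ≤ 1)
    (hH1 : Subsingleton (Coh.HH (f.fiber y) (Coh.structureModule (f.fiber y)) 1)) :
    ∃ (W Z : Scheme.{u}) (j : W ⟶ Y) (k : Z ⟶ X) (q : Z ⟶ W), IsGoodChart f y j k q := by
  obtain ⟨V₁, hV₁, hy, -⟩ := exists_isAffineOpen_mem_and_subset (U := (⊤ : Y.Opens)) (Opens.mem_top y)
  haveI : IsAffine V₁.toScheme := hV₁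
  let τ := IsOpenImmersion.lift V₁.ι (Y.fromSpecResidueField y)
    (by rw [Scheme.Opens.range_ι, Scheme.range_fromSpecResidueField]; exact Set.singleton_subset_iff.mpr hy)
  have hτ : τ ≫ V₁.ι = Y.fromSpecResidueField y := IsOpenImmersion.lift_fac _ _ _
  let t : ↥(Spec (Y.residueField y)) := IsLocalRing.closedPoint (Y.residueField y)
  have ht : τ t = ⟨y, hy⟩ := Subtype.ext (by
    show V₁.ι (τ t) = y
    rw [← Scheme.Hom.comp_apply, hτ, Scheme.fromSpecResidueField_apply])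
  have hrange : Set.range (f.fiberι y) ⊆ Set.range (f ⁻¹ᵁ V₁).ι := by
    rw [Scheme.Opens.range_ι, f.range_fiberι y]
    intro x hx
    show f x ∈ V₁
    rw [show f x = y from hx]
    exact hy
  let h := IsOpenImmersion.lift (f ⁻¹ᵁ V₁).ι (f.fiberι y) hrange
  have hh : h ≫ (f ⁻¹ᵁ V₁).ι = f.fiberι y := IsOpenImmersion.lift_fac _ _ _
  have hc : IsPullback h (f.fiberToSpecResidueField y) (f ∣_ V₁) τ := by
    refine IsPullback.of_right ?_ ?_ (isPullback_morphismRestrict f V₁).flip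
    · rw [hh, hτ]
      exact IsPullback.of_hasPullback f (Y.fromSpecResidueField y)
    · rw [← cancel_mono V₁.ι, Category.assoc, morphismRestrict_ι, reassoc_of% hh, Category.assoc, hτ]
      exact pullback.condition
  have hT : IsField Γ(Spec (Y.residueField y), ⊤) :=
    (Scheme.ΓSpecIso (Y.residueField y)).commRingCatIsoToRingEquiv.toMulEquiv.isField
      (Field.toIsField (Y.residueField y))
  haveI : SurjectiveOnStalks (τ ≫ V₁.ι) := hτ ▸ inferInstance
  haveI : SurjectiveOnStalks τ := SurjectiveOnStalks.of_comp τ V₁.ι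
  obtain ⟨W, Z, j, k, q, hW, hj, ⟨w, hw⟩, hsq, hU⟩ := exists_goodChart_of_isAffine (f ∣_ V₁) ⟨y, hy⟩
    ((VanQC.dim_fiber_restrict f V₁ _).trans_le hd) τ t ht hT (hasFrac_of_surjectiveOnStalks τ t hT)
    h (f.fiberToSpecResidueField y) hc hH1
  haveI := hj
  exact ⟨W, Z, j ≫ V₁.ι, k ≫ (f ⁻¹ᵁ V₁).ι, q, hW, inferInstance,
    ⟨w, congrArg Subtype.val hw⟩, hsq.paste_horiz (isPullback_morphismRestrict f V₁).flip, hU⟩

/-- A good chart kills `H¹` of every base change to an affine scheme. -/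
theorem IsGoodChart.subsingleton {f : X ⟶ Y} {y : Y} {W Z : Scheme.{u}} {j : W ⟶ Y} {k : Z ⟶ X}
    {q : Z ⟶ W} (hG : IsGoodChart f y j k q) {W' Z' : Scheme.{u}} [IsAffine W'] (b : W' ⟶ W)
    (a : Z' ⟶ Z) (q' : Z' ⟶ W') (hsq : IsPullback a q' q b) :
    Subsingleton (Coh.HH Z' (Coh.structureModule Z') 1) := by
  haveI := hG.affine
  obtain ⟨ι, _, U, hcov, haff, hvan, hex⟩ := hG.chart
  haveI : IsAffineHom a := MorphismProperty.of_isPullback (P := @IsAffineHom) hsq.flip inferInstance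
  exact (exact1_iff_subsingleton (pre U a) (iSup_pre U a hcov) (fun x => isAffineOpen_iO_pre U a haff x)).mp
    (exact1_pre a q'.appTop.hom hvan haff (spans_of_isPullback hsq) hex)

end Groth.Agent.FlatMor.CechH1
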