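import Groth.Agent.FlatMor.CechH1.Global
import Groth.Agent.FlatMor.CechH1.Kernel
import Groth.Agent.S7411

/-!
# Base change of global functions in the absence of `H¹`
-/

set_option autoImplicit false
universe u

open CategoryTheory Limits Opposite TopologicalSpace AlgebraicGeometry

namespace Groth.Agent.FlatMor.CechH1

open Groth.Agent.CohAff (inter inter_le mem_inter inter_comp_le Cochain cd cd_apply cd_cd cmap cd_cmap cmap_apply)

variable {X X' Y Y' : Scheme.{u}}

/-- A Čech zero-cocycle of functions is a global function. -/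
theorem exists_glue {ι : Type u} (U : ι → X.Opens) (hcov : iSup U = ⊤) {A : Type u} [CommRing A]
    (ψ : A →+* Γ(X, (⊤ : X.Opens))) (c : (C ψ U).X 0) (hc : (C ψ U).d 0 c = 0) :
    ∃ G : Γ(X, (⊤ : X.Opens)), ∀ x : Fin 1 → ι,
      X.presheaf.map (homOfLE le_top).op G = (show Γ(X, iO U x) from c x) := by
  let V : (Fin 1 → ι) → X.Opens := fun x => iO U x
  have hV : ⊤ ≤ iSup V := fun p _ => by
    obtain ⟨i, hi⟩ := Opens.mem_iSup.mp (show p ∈ iSup U by rw [hcov]; trivial)
    exact Opens.mem_iSup.mpr ⟨fun _ => i, mem_inter.mpr fun _ => hi⟩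
  have hcompat : TopCat.Presheaf.IsCompatible X.presheaf V (fun x => (show Γ(X, V x) from c x)) := by
    intro x y
    let w : Fin (0 + 2) → ι := ![x 0, y 0]
    have hw := congrFun hc w
    have h1 : (Coh.structureModule X).presheaf.map (homOfLE (inter_comp_le U w (0 : Fin 2).succAbove)).op
        (c (w ∘ (0 : Fin 2).succAbove)) = (Coh.structureModule X).presheaf.map
          (homOfLE (inter_comp_le U w (1 : Fin 2).succAbove)).op (c (w ∘ (1 : Fin 2).succAbove)) := by
      have h2 := (cd_apply (Coh.structureModule X).presheaf U 0 c w).symm.trans hw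
      rw [Fin.sum_univ_two, Fin.val_zero, Fin.val_one, pow_zero, pow_one, one_zsmul, neg_one_zsmul,
        ← sub_eq_add_neg] at h2
      exact sub_eq_zero.mp h2
    have hle : V x ⊓ V y ≤ iO U w := CohAff.le_inter fun a => by
      fin_cases a
      · exact inf_le_left.trans (inter_le U x 0)
      · exact inf_le_right.trans (inter_le U y 0)
    have h3 := congrArg (X.presheaf.map (homOfLE hle).op).hom h1
    have ey : w ∘ (0 : Fin 2).succAbove = y := funext fun a => by fin_cases a; rfl
    have ex : w ∘ (1 : Fin 2).succAbove = x := funext fun a => by fin_cases a; rfl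
    have key : ∀ (x₁ : Fin 1 → ι) (e₁ : iO U w ≤ iO U x₁) (x₂ : Fin 1 → ι) (_ : x₁ = x₂)
        (e₂ : V x ⊓ V y ≤ iO U x₂), X.presheaf.map (homOfLE hle).op (X.presheaf.map (homOfLE e₁).op
          (show Γ(X, iO U x₁) from c x₁)) = X.presheaf.map (homOfLE e₂).op (show Γ(X, iO U x₂) from c x₂) := by
      rintro x₁ e₁ _ rfl e₂
      rw [← CommRingCat.comp_apply, ← Functor.map_comp]
      rfl
    exact ((key _ (inter_comp_le U w (1 : Fin 2).succAbove) x ex inf_le_left).symm.trans h3.symm).trans
      (key _ (inter_comp_le U w (0 : Fin 2).succAbove) y ey inf_le_right)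
  obtain ⟨G, hG, -⟩ := X.sheaf.existsUnique_gluing' V ⊤ (fun x => homOfLE le_top) hV _ hcompat
  exact ⟨G, hG⟩

set_option maxHeartbeats 1000000 in
/-- **Global functions of a base change come from the base.** -/
theorem surjective_appTop (f : X ⟶ Y) [IsProper f] [IsAffine Y]
    (hdim : ∀ y : Y, topologicalKrullDim ↥(f.fiber y) ≤ 1)
    (hH1 : ∀ y : Y, Subsingleton (Coh.HH (f.fiber y) (Coh.structureModule (f.fiber y)) 1))
    (hsurj : Function.Surjective f.appTop) [IsAffine Y'] {h : X' ⟶ X} {f' : X' ⟶ Y'} {g : Y' ⟶ Y}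
    (hc : IsPullback h f' f g) : Function.Surjective f'.appTop := by
  classical
  intro z
  haveI : (Coh.structureModule X).IsQuasicoherent := WeakAssSch.isQuasicoherent_unit X
  obtain ⟨D⟩ := CBC.nonempty_model f (isAffineOpen_top Y)
  haveI : Fintype D.ι := Fintype.ofFinite _
  have hcov : iSup D.U = ⊤ := top_le_iff.mp D.cov
  have haff : ∀ {n : ℕ} (x : Fin (n + 1) → D.ι), IsAffineOpen (iO D.U x) := D.aff
  have hex := exact1_global f hdim hH1 D
  have hvan : VanQC.Van D.U 1 := fun M hM n hn => by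
    haveI := hM
    haveI : Coh.IsQCoh M := hM
    refine VanQC.cechExact_of_subsingleton_rpush D M (isAffineOpen_top Y) n ?_
    exact VanQC.subsingleton_rpush_sections f M (n + 1) ⊤ fun y _ =>
      S7411.result f y 1 (hdim y) M (n + 1) (Nat.lt_succ_of_le hn)
  let U := D.U
  let B := Γ(Y', (⊤ : Y'.Opens))
  let ψ := f.appTop.hom
  let res' : ∀ O : X.Opens, B → Γ(X', h ⁻¹ᵁ O) := fun O b =>
    X'.presheaf.map (homOfLE le_top).op (f'.appTop b)
  have hres : ∀ {O O' : X.Opens} (e : O' ≤ O) (a : Γ(X, O)) (b : B),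
      h.app O' (X.presheaf.map (homOfLE e).op a) * res' O' b =
        X'.presheaf.map (homOfLE (h.preimage_mono e)).op (h.app O a * res' O b) := by
    intro O O' e a b
    rw [map_mul]
    refine congrArg₂ (· * ·) ?_ ?_
    · exact congr($(h.naturality (homOfLE e).op) a)
    · show _ = (X'.presheaf.map _ ≫ X'.presheaf.map _) _
      rw [← Functor.map_comp]
      rfl
  -- lifts on the cover
  have hY0 : ∀ x : Fin 1 → D.ι, ∃ Y0 : B →₀ Γ(X, iO U x),
      Y0.sum (fun b m => h.app (iO U x) m * res' (iO U x) b) = X'.presheaf.map (homOfLE le_top).op z := by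
    intro x
    obtain ⟨r, c, β, hb⟩ := spans_of_isPullback hc (iO U x) (haff x)
      (X'.presheaf.map (homOfLE le_top).op z)
    refine ⟨∑ j, Finsupp.single (β j) (c j), ?_⟩
    rw [hb, ← Finsupp.sum_finsetSum_index (by simp) (by simp [map_add, add_mul])]
    exact Finset.sum_congr rfl fun j _ => Finsupp.sum_single_index (by simp)
  choose Y0 hY0 using hY0
  let T0 : Finset B := Finset.univ.biUnion fun x => (Y0 x).support
  let c : B → (C ψ U).X 0 := fun b => fun x => (show Γ(X, iO U x) from Y0 x b)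
  have hc0 : ∀ b, b ∉ T0 → c b = 0 := fun b hb => funext fun x =>
    Finsupp.notMem_support_iff.mp fun hm => hb (Finset.mem_biUnion.mpr ⟨x, Finset.mem_univ x, hm⟩)
  have hsum0 : ∀ (x : Fin 1 → D.ι) (T : Finset B), T0 ⊆ T →
      ∑ b ∈ T, h.app (iO U x) (show Γ(X, iO U x) from c b x) * res' (iO U x) b =
        X'.presheaf.map (homOfLE le_top).op z := fun x T hT => by
    rw [← hY0 x]
    exact (Finsupp.sum_of_support_subset _
      ((Finset.subset_biUnion_of_mem (fun x => (Y0 x).support) (Finset.mem_univ x)).trans hT)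
      (fun b m => h.app (iO U x) m * res' (iO U x) b) fun b _ =>
        (congrArg (· * res' (iO U x) b) (map_zero (h.app (iO U x)).hom)).trans (zero_mul _)).symm
  -- the differential consists of relations
  let Z : ∀ w : Fin 2 → D.ι, B →₀ Γ(X, iO U w) := fun w =>
    Finsupp.onFinset T0 (fun b => (show Γ(X, iO U w) from (C ψ U).d 0 (c b) w)) fun b hb => by
      by_contra hn
      exact hb (by rw [hc0 b hn, map_zero]; rfl)
  have hZ : ∀ w, (Z w).sum (fun b m => h.app (iO U w) m * res' (iO U w) b) = 0 := by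
    intro w
    refine (Finsupp.onFinset_sum (g := fun b m => h.app (iO U w) m * res' (iO U w) b) _ fun b =>
      (congrArg (· * res' (iO U w) b) (map_zero (h.app (iO U w)).hom)).trans (zero_mul _)).trans ?_
    have hd : ∀ b, (show Γ(X, iO U w) from (C ψ U).d 0 (c b) w) =
        X.presheaf.map (homOfLE (inter_comp_le U w (0 : Fin 2).succAbove)).op
          (show Γ(X, _) from c b (w ∘ (0 : Fin 2).succAbove)) -
        X.presheaf.map (homOfLE (inter_comp_le U w (1 : Fin 2).succAbove)).op
          (show Γ(X, _) from c b (w ∘ (1 : Fin 2).succAbove)) := by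
      intro b
      refine (cd_apply (Coh.structureModule X).presheaf U 0 (c b) w).trans ?_
      rw [Fin.sum_univ_two, Fin.val_zero, Fin.val_one, pow_zero, pow_one, one_zsmul, neg_one_zsmul,
        ← sub_eq_add_neg]
      rfl
    simp only [hd, map_sub, sub_mul, Finset.sum_sub_distrib]
    rw [Finset.sum_congr rfl fun b _ => hres (inter_comp_le U w (0 : Fin 2).succAbove) _ b,
      Finset.sum_congr rfl fun b _ => hres (inter_comp_le U w (1 : Fin 2).succAbove) _ b,
      ← map_sum, ← map_sum, hsum0 _ T0 le_rfl, hsum0 _ T0 le_rfl, ← CommRingCat.comp_apply,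
      ← CommRingCat.comp_apply, ← Functor.map_comp, ← Functor.map_comp]
    exact sub_self _
  choose r m ρ hρ hZρ using fun w => exists_relations_of_isPullback hc (haff (n := 1) w) (Z w) (hZ w)
  let T : Finset B := T0 ∪ Finset.univ.biUnion fun w => Finset.univ.biUnion fun k => (ρ w k).support
  have hT0 : T0 ⊆ T := Finset.subset_union_left
  -- the relation sections in a free module
  let N := FlatMod.freeMod X T.card
  haveI : N.IsQuasicoherent := VBLib.isQuasicoherent_freeMod X T.card
  let q := T.equivFin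
  let ι' := fun t => Sigma.ι (fun _ : Fin T.card => Coh.structureModule X) t
  let π : Fin T.card → (N ⟶ Coh.structureModule X) := fun t =>
    Sigma.desc fun j => if j = t then 𝟙 _ else 0
  have hιπ : ∀ j t, ι' j ≫ π t = if j = t then 𝟙 _ else 0 := fun j t => Sigma.ι_desc _ _
  have hπι : ∀ (O : X.Opens) (a : Fin T.card → Γ(X, O)) t,
      (π t).app O (∑ j, (ι' j).app O (a j)) = a t := by
    intro O a t
    rw [map_sum, Finset.sum_eq_single t]
    · exact congr($(congrArg (fun φ : Coh.structureModule X ⟶ Coh.structureModule X =>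
        Scheme.Modules.Hom.app φ O) ((hιπ t t).trans (if_pos rfl))) (a t))
    · intro j _ hj
      exact congr($(congrArg (fun φ : Coh.structureModule X ⟶ Coh.structureModule X =>
        Scheme.Modules.Hom.app φ O) ((hιπ j t).trans (if_neg hj))) (a j))
    · intro ht
      exact absurd (Finset.mem_univ t) ht
  let K := Σ w : Fin 2 → D.ι, Fin (r w)
  let qK := Fintype.equivFin K
  let ρ' : Fin (Fintype.card K) → (B →₀ Γ(Y, (⊤ : Y.Opens))) := fun k => ρ (qK.symm k).1 (qK.symm k).2
  let s : Fin (Fintype.card K) → Γ(N, (⊤ : X.Opens)) := fun k =>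
    ∑ t, (ι' t).app ⊤ (ψ (ρ' k (q.symm t).1))
  let z1 : Coch N U 1 := ∑ t, cmap (ι' t).mapPresheaf U 1 ((C ψ U).d 0 (c (q.symm t).1))
  have hz1x : ∀ w, z1 w = ∑ t, (ι' t).app (iO U w) ((C ψ U).d 0 (c (q.symm t).1) w) := fun w =>
    Finset.sum_apply w _ _
  have hz1 : cd N.presheaf U 1 z1 = 0 := by
    show cd N.presheaf U 1 (∑ t, cmap (ι' t).mapPresheaf U 1 ((C ψ U).d 0 (c (q.symm t).1))) = 0
    rw [map_sum]
    refine Finset.sum_eq_zero fun t _ => ?_
    rw [cd_cmap]
    exact (congrArg (cmap (ι' t).mapPresheaf U 2) ((C ψ U).d_d 0 (c (q.symm t).1))).trans (map_zero _)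
  have hs : ∀ (O : X.Opens) k, N.presheaf.map (homOfLE le_top).op (s k) =
      ∑ t, (ι' t).app O (X.presheaf.map (homOfLE le_top).op (ψ (ρ' k (q.symm t).1))) := by
    intro O k
    rw [map_sum]
    refine Finset.sum_congr rfl fun t _ => ?_
    exact (congr($((ι' t).mapPresheaf.naturality (homOfLE (le_top : O ≤ ⊤)).op) (ψ (ρ' k (q.symm t).1)))).symm
  have hspan : ∀ w, ∃ a : Fin (Fintype.card K) → Γ(X, iO U w),
      z1 w = ∑ k, a k • N.presheaf.map (homOfLE le_top).op (s k) := by
    intro w
    let aK : K → Γ(X, iO U w) := fun k => if hk : k.1 = w then m w (hk ▸ k.2) else 0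
    refine ⟨fun k => aK (qK.symm k), ?_⟩
    let g' : K → Γ(N, iO U w) := fun k => aK k • ∑ t, (ι' t).app (iO U w)
      (X.presheaf.map (homOfLE le_top).op (ψ (ρ k.1 k.2 (q.symm t).1)))
    refine Eq.trans ?_ (Finset.sum_congr rfl fun k _ => (congrArg (aK (qK.symm k) • ·) (hs _ k)).symm)
    refine Eq.trans ?_ (qK.symm.sum_comp g').symm
    rw [Fintype.sum_sigma, Finset.sum_eq_single w]
    · simp only [g', aK, dif_pos, Finset.smul_sum]
      rw [Finset.sum_comm, hz1x]
      refine Finset.sum_congr rfl fun t _ => ?_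
      refine Eq.trans ?_ (Finset.sum_congr rfl fun i _ => Scheme.Modules.Hom.app_smul (ι' t) (m w i) _)
      refine Eq.trans ?_ (map_sum ((ι' t).app (iO U w)).hom _ _)
      refine congrArg ((ι' t).app (iO U w)) ?_
      refine Eq.trans ?_ (((hZρ w) (q.symm t).1).trans (Finset.sum_congr rfl fun i _ => mul_comm _ _))
      rfl
    · intro y _ hy
      refine Finset.sum_eq_zero fun i _ => ?_
      show aK ⟨y, i⟩ • _ = 0
      rw [show aK ⟨y, i⟩ = 0 from dif_neg hy]
      exact zero_smul _ _
    · intro hw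
      exact absurd (Finset.mem_univ w) hw
  obtain ⟨e, he, hze⟩ := exists_cocycle_lift hvan N s z1 hz1 hspan
  choose u hu using fun k => show ∃ u : (C ψ U).X 0, (C ψ U).d 0 u = e k from hex (e k) (he k)
  let c' : Fin T.card → (C ψ U).X 0 := fun t => c (q.symm t).1 - ∑ k, ρ' k (q.symm t).1 • u k
  have hdc : ∀ t, (C ψ U).d 0 (c' t) = 0 := by
    intro t
    show (C ψ U).d 0 (c (q.symm t).1 - ∑ k, ρ' k (q.symm t).1 • u k) = 0
    rw [map_sub, map_sum, sub_eq_zero]
    funext w
    rw [Finset.sum_apply]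
    have h1 := congrArg ((π t).app (iO U w)) ((hz1x w).symm.trans (hze w))
    rw [hπι _ (fun j => ((C ψ U).d 0 (c (q.symm j).1) w)) t, map_sum] at h1
    refine h1.trans (Finset.sum_congr rfl fun k _ => ?_)
    refine Eq.trans ?_ (congrFun (((C ψ U).d 0).map_smul (ρ' k (q.symm t).1) (u k)) w).symm
    refine Eq.trans ?_ (congrArg (fun v => ((ρ' k (q.symm t).1) • v : (C ψ U).X 1) w) (hu k)).symm
    refine (Scheme.Modules.Hom.app_smul (π t) (show Γ(X, iO U w) from e k w) _).trans ?_
    rw [hs, hπι _ _ t]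
    exact mul_comm (show Γ(X, iO U w) from e k w) (X.presheaf.map (homOfLE le_top).op (ψ (ρ' k (q.symm t).1)))
  choose G hG using fun t => exists_glue U hcov ψ (c' t) (hdc t)
  choose a ha using fun t => hsurj (G t)
  refine ⟨∑ t, g.appTop (a t) * (q.symm t).1, ?_⟩
  refine TopCat.Sheaf.eq_of_locally_eq' X'.sheaf (fun x : Fin 1 → D.ι => h ⁻¹ᵁ iO U x) ⊤
    (fun x => homOfLE le_top) (fun p _ => ?_) _ _ fun x => ?_
  · obtain ⟨i, hi⟩ := Opens.mem_iSup.mp (show h p ∈ iSup D.U by rw [hcov]; trivial)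
    exact Opens.mem_iSup.mpr ⟨fun _ => i, mem_inter.mpr fun _ => hi⟩
  show X'.presheaf.map (homOfLE le_top).op (f'.appTop (∑ t, g.appTop (a t) * (q.symm t).1)) =
    X'.presheaf.map (homOfLE le_top).op z
  rw [map_sum, map_sum, ← hsum0 x T hT0, ← Finset.sum_coe_sort T, ← q.symm.sum_comp]
  have hft : ∀ (aa : Γ(Y, (⊤ : Y.Opens))) (b : B),
      X'.presheaf.map (homOfLE le_top).op (f'.appTop (g.appTop aa * b)) =
        h.app (iO U x) (X.presheaf.map (homOfLE le_top).op (ψ aa)) * res' (iO U x) b := by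
    intro aa b
    rw [map_mul, map_mul]
    refine congrArg (· * res' (iO U x) b) ?_
    rw [show f'.appTop (g.appTop aa) = h.appTop (ψ aa) from
      congr($(show g.appTop ≫ f'.appTop = f.appTop ≫ h.appTop by
        rw [← Scheme.Hom.comp_appTop, ← Scheme.Hom.comp_appTop, hc.w]) aa)]
    exact (congr($(h.naturality (homOfLE (le_top : iO U x ≤ ⊤)).op) (ψ aa))).symm
  have hgoal : ∀ t, X'.presheaf.map (homOfLE le_top).op (f'.appTop (g.appTop (a t) * (q.symm t).1)) =
      h.app (iO U x) (show Γ(X, iO U x) from c (q.symm t).1 x) * res' (iO U x) (q.symm t).1 -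
        ∑ k, h.app (iO U x) (show Γ(X, iO U x) from u k x) *
          X'.presheaf.map (homOfLE le_top).op (f'.appTop (g.appTop (ρ' k (q.symm t).1) * (q.symm t).1)) := by
    intro t
    rw [hft, show ψ (a t) = G t from ha t, hG t x]
    show h.app (iO U x) ((show Γ(X, iO U x) from c (q.symm t).1 x) -
      (show Γ(X, iO U x) from (∑ k, ρ' k (q.symm t).1 • u k) x)) * _ = _
    rw [map_sub, sub_mul]
    refine congrArg₂ (· - ·) rfl ?_
    rw [Finset.sum_apply]
    refine (congrArg (· * _) (map_sum (h.app (iO U x)).hom _ _)).trans ((Finset.sum_mul ..).trans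
      (Finset.sum_congr rfl fun k _ => ?_))
    rw [hft]
    refine (congrArg (· * _) (map_mul (h.app (iO U x)).hom
      (X.presheaf.map (homOfLE le_top).op (ψ (ρ' k (q.symm t).1))) (show Γ(X, iO U x) from u k x))).trans ?_
    exact (mul_assoc _ _ _).trans (mul_left_comm _ _ _)
  rw [Finset.sum_congr rfl fun t _ => hgoal t, Finset.sum_sub_distrib, Finset.sum_comm]
  refine (congrArg₂ (· - ·) rfl (Finset.sum_eq_zero fun k _ => ?_)).trans (sub_zero _)
  rw [← Finset.mul_sum, ← map_sum, ← map_sum]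
  refine mul_eq_zero_of_right _ ?_
  have hsupp : (ρ' k).support ⊆ T := fun b hb => Finset.mem_union_right _
    (Finset.mem_biUnion.mpr ⟨_, Finset.mem_univ _, Finset.mem_biUnion.mpr ⟨_, Finset.mem_univ _, hb⟩⟩)
  have h0 : ∑ t, g.appTop (ρ' k (q.symm t).1) * (q.symm t).1 = 0 := by
    refine (q.symm.sum_comp fun b : T => g.appTop (ρ' k b.1) * b.1).trans
      ((Finset.sum_coe_sort T fun b => g.appTop (ρ' k b) * b).trans ?_)
    refine (Finsupp.sum_of_support_subset (ρ' k) hsupp (fun b a => g.appTop a * b) (by simp)).symm.trans ?_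
    exact hρ _ _
  rw [h0, map_zero, map_zero]

end Groth.Agent.FlatMor.CechH1
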