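import Groth.Agent.FlatMor.CechH1.Surj

/-!
# Surjectivity on affine opens
-/

set_option autoImplicit false
universe u

open CategoryTheory Limits Opposite TopologicalSpace AlgebraicGeometry

namespace Groth.Agent.FlatMor.CechH1

variable {X X' Y Y' : Scheme.{u}}

/-- Vanishing of `H¹` of the structure sheaf is invariant under isomorphisms of schemes. -/
theorem subsingleton_HH_of_isIso (e : X' ⟶ X) [IsIso e] {S : Scheme.{u}} [IsAffine S] (π : X ⟶ S)
    [IsSeparated π] [QuasiCompact π] (hX : Subsingleton (Coh.HH X (Coh.structureModule X) 1)) :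
    Subsingleton (Coh.HH X' (Coh.structureModule X') 1) := by
  obtain ⟨D⟩ := CBC.nonempty_model π (isAffineOpen_top S)
  have hcov : iSup D.U = ⊤ := top_le_iff.mp D.cov
  have haff : ∀ {n : ℕ} (x : Fin (n + 1) → D.ι), IsAffineOpen (iO D.U x) := D.aff
  have hex := (exact1_iff_subsingleton D.U hcov haff).mpr hX
  let ψ : Γ(X, (⊤ : X.Opens)) →+* Γ(X, (⊤ : X.Opens)) := RingHom.id _
  let ψ' : Γ(X', (⊤ : X'.Opens)) →+* Γ(X', (⊤ : X'.Opens)) := RingHom.id _
  have hbij : ∀ n, Function.Bijective (pullC D.U e ψ ψ' n) := by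
    intro n
    have hb : ∀ x : Fin (n + 1) → D.ι, Function.Bijective
        (e.appLE (iO D.U x) (iO (pre D.U e) x) (iO_pre D.U e x).le) := fun x => by
      haveI : IsIso (e.appLE (iO D.U x) (iO (pre D.U e) x) (iO_pre D.U e x).le) := by
        rw [Scheme.Hom.appLE, show (homOfLE (iO_pre D.U e x).le).op =
          (eqToHom (iO_pre D.U e x)).op from Subsingleton.elim _ _]
        infer_instance
      exact ConcreteCategory.bijective_of_isIso _
    refine ⟨fun a b h => funext fun x => (hb x).1 (congrFun h x), fun d => ?_⟩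
    choose c hc using fun x => (hb x).2 (show Γ(X', iO (pre D.U e) x) from d x)
    exact ⟨fun x => c x, funext hc⟩
  refine (exact1_iff_subsingleton (pre D.U e) (iSup_pre D.U e hcov)
    (fun x => isAffineOpen_iO_pre D.U e haff x)).mp fun z hz => ?_
  obtain ⟨z₀, hz₀⟩ := (hbij 1).2 z
  have hz₀' : (C ψ D.U).d 1 z₀ = 0 := (hbij 2).1 (by
    rw [pullC_d, hz₀, map_zero]; exact hz)
  obtain ⟨t, ht⟩ : ∃ t : (C ψ D.U).X 0, (C ψ D.U).d 0 t = z₀ := hex z₀ hz₀'
  refine ⟨pullC D.U e ψ ψ' 0 t, ?_⟩
  show (C ψ' (pre D.U e)).d 0 (pullC D.U e ψ ψ' 0 t) = z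
  rw [← pullC_d, ht, hz₀]

/-- The hypothesis on fibres passes to opens of the base. -/
theorem subsingleton_HH_fiber_restrict (f : X ⟶ Y) [IsProper f] (V : Y.Opens) (v : V.toScheme)
    (h : Subsingleton (Coh.HH (f.fiber (V.ι v)) (Coh.structureModule (f.fiber (V.ι v))) 1)) :
    Subsingleton (Coh.HH ((f ∣_ V).fiber v) (Coh.structureModule ((f ∣_ V).fiber v)) 1) := by
  let φ := Spec.map (V.ι.residueFieldMap v)
  have sq : IsPullback ((f ∣_ V).fiberι v ≫ (f ⁻¹ᵁ V).ι) ((f ∣_ V).fiberToSpecResidueField v) f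
      (φ ≫ Y.fromSpecResidueField (V.ι v)) := by
    rw [Scheme.Hom.SpecMap_residueFieldMap_fromSpecResidueField]
    exact (IsPullback.of_hasPullback (f ∣_ V) (V.toScheme.fromSpecResidueField v)).paste_horiz
      (isPullback_morphismRestrict f V).flip
  let ν : (f ∣_ V).fiber v ⟶ f.fiber (V.ι v) :=
    pullback.lift ((f ∣_ V).fiberι v ≫ (f ⁻¹ᵁ V).ι) ((f ∣_ V).fiberToSpecResidueField v ≫ φ)
      (sq.w.trans (Category.assoc _ _ _).symm)
  have hν : IsPullback ν ((f ∣_ V).fiberToSpecResidueField v) (f.fiberToSpecResidueField (V.ι v)) φ :=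
    IsPullback.of_right (by erw [pullback.lift_fst]; exact sq) (pullback.lift_snd _ _ _)
      (IsPullback.of_hasPullback f (Y.fromSpecResidueField (V.ι v)))
  haveI : IsIso φ := inferInstance
  haveI : IsIso ν := MorphismProperty.of_isPullback (P := MorphismProperty.isomorphisms Scheme.{u})
    hν.flip (inferInstanceAs (IsIso φ))
  haveI : IsSeparated (f.fiberToSpecResidueField (V.ι v)) :=
    MorphismProperty.pullback_snd _ _ inferInstance
  haveI : QuasiCompact (f.fiberToSpecResidueField (V.ι v)) :=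
    MorphismProperty.pullback_snd _ _ inferInstance
  exact subsingleton_HH_of_isIso ν (f.fiberToSpecResidueField (V.ι v)) h

/-- The restriction to an open is surjective on global functions iff the map is surjective there. -/
theorem surjective_app_iff (f : X ⟶ Y) (U : Y.Opens) :
    Function.Surjective (f ∣_ U).appTop ↔ Function.Surjective (f.app U) := by
  have h1 := morphismRestrict_app f U ⊤
  have key : ∀ (O : Y.Opens), O = U → (Function.Surjective (f.app O) ↔ Function.Surjective (f.app U)) := by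
    rintro O rfl; rfl
  rw [← key (U.ι ''ᵁ ⊤) U.ι_image_top]
  show Function.Surjective ((f ∣_ U).app ⊤) ↔ _
  rw [h1]
  let m := X.presheaf.map (eqToHom (image_morphismRestrict_preimage f U ⊤)).op
  show Function.Surjective (m ∘ f.app (U.ι ''ᵁ ⊤)) ↔ _
  exact Function.Surjective.of_comp_iff' (ConcreteCategory.bijective_of_isIso m) _

end Groth.Agent.FlatMor.CechH1
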